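import Cfsg.Agent.Lib.Classical.UnitaryTransv

/-!
Transvections and Siegel elements lying in a subgroup of `SU`, described by their action.
-/

set_option autoImplicit false

namespace CfsgLib.KnownA.SuGen

open Matrix CfsgLib.Classical CfsgLib.Classical.Unitary

variable {F : Type*} [Field F] {σ : F →+* F} {q n : ℕ}

/-- `H` contains the transvection `x ↦ x + c h(x, v) v`. -/
def TIn (σ : F →+* F) (H : Subgroup (Cfsg.SU n F q)) (v : Fin n → F) (c : F) : Prop :=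
  ∃ g ∈ H, ∀ x, g.1.1 *ᵥ x = x + (c * uh σ x v) • v

/-- `H` contains the Siegel element `x ↦ x + h(x,a) w + (ζ h(x,a) - h(x,w)) a`. -/
def EIn (σ : F →+* F) (H : Subgroup (Cfsg.SU n F q)) (a w : Fin n → F) (ζ : F) : Prop :=
  ∃ g ∈ H, ∀ x, g.1.1 *ᵥ x = x + uh σ x a • w + (ζ * uh σ x a - uh σ x w) • a

/-- All transvections at `v` lie in `H`. -/
def Full (σ : F →+* F) (H : Subgroup (Cfsg.SU n F q)) (v : Fin n → F) : Prop :=
  ∀ c : F, c + σ c = 0 → TIn σ H v c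

variable {H : Subgroup (Cfsg.SU n F q)}

theorem uh_inv_mulVec (h : UFrob σ q) (g : Cfsg.SU n F q) (x v : Fin n → F) :
    uh σ ((g⁻¹).1.1 *ᵥ x) v = uh σ x (g.1.1 *ᵥ v) := by
  conv_rhs => rw [← su_mulVec_inv g x, su_uh h]

theorem TIn.move (h : UFrob σ q) {g : Cfsg.SU n F q} (hg : g ∈ H) {v v' : Fin n → F} {c : F}
    (ht : TIn σ H v c) (e : g.1.1 *ᵥ v = v') : TIn σ H v' c := by
  obtain ⟨t, ht, hte⟩ := ht
  refine ⟨g * t * g⁻¹, mul_mem (mul_mem hg ht) (inv_mem hg), fun x => ?_⟩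
  rw [su_mul_mulVec, su_mul_mulVec, hte, mulVec_add, mulVec_smul, su_mulVec_inv,
    uh_inv_mulVec h, e]

theorem EIn.move (h : UFrob σ q) {g : Cfsg.SU n F q} (hg : g ∈ H) {a a' w w' : Fin n → F} {ζ : F}
    (ht : EIn σ H a w ζ) (ea : g.1.1 *ᵥ a = a') (ew : g.1.1 *ᵥ w = w') : EIn σ H a' w' ζ := by
  obtain ⟨t, ht, hte⟩ := ht
  refine ⟨g * t * g⁻¹, mul_mem (mul_mem hg ht) (inv_mem hg), fun x => ?_⟩
  rw [su_mul_mulVec, su_mul_mulVec, hte, mulVec_add, mulVec_add, mulVec_smul, mulVec_smul,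
    su_mulVec_inv, uh_inv_mulVec h, uh_inv_mulVec h, ea, ew]

theorem TIn.congr {v v' : Fin n → F} {c c' : F} (ht : TIn σ H v c) (hv : v = v') (hc : c = c') :
    TIn σ H v' c' := hv ▸ hc ▸ ht

theorem EIn.congr {a w w' : Fin n → F} {ζ ζ' : F} (ht : EIn σ H a w ζ) (hw : w = w')
    (hζ : ζ = ζ') : EIn σ H a w' ζ' := hw ▸ hζ ▸ ht

theorem TIn.smul {v : Fin n → F} {c : F} (μ : F) (ht : TIn σ H v (c * (μ * σ μ))) :
    TIn σ H (μ • v) c := by
  obtain ⟨t, ht, hte⟩ := ht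
  refine ⟨t, ht, fun x => ?_⟩
  rw [hte, uh_smul_right]
  module

theorem TIn.unit_smul {v : Fin n → F} {c μ : F} (hμ : μ * σ μ = 1) (ht : TIn σ H v c) :
    TIn σ H (μ • v) c := TIn.smul μ (by rwa [hμ, mul_one])

theorem TIn.inv {v : Fin n → F} {c : F} (hv : uh σ v v = 0) (ht : TIn σ H v c) :
    TIn σ H v (-c) := by
  obtain ⟨t, ht, hte⟩ := ht
  refine ⟨t⁻¹, inv_mem ht, fun x => ?_⟩
  conv_rhs => rw [← su_inv_mulVec t (x + (-c * uh σ x v) • v)]
  rw [hte]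
  congr 1
  rw [uh_add_left, uh_smul_left, hv]
  module

theorem TIn.zero (v : Fin n → F) : TIn σ H v 0 :=
  ⟨1, one_mem H, fun x => by simp⟩

theorem EIn.toT {a : Fin n → F} {ζ : F} (ht : EIn σ H a 0 ζ) : TIn σ H a ζ := by
  obtain ⟨t, ht, hte⟩ := ht
  exact ⟨t, ht, fun x => by rw [hte, smul_zero, add_zero, uh_zero_right, sub_zero]⟩

theorem TIn.toE {a : Fin n → F} {ζ : F} (ht : TIn σ H a ζ) : EIn σ H a 0 ζ := by
  obtain ⟨t, ht, hte⟩ := ht
  exact ⟨t, ht, fun x => by rw [hte, smul_zero, add_zero, uh_zero_right, sub_zero]⟩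

theorem EIn.shift (h : UFrob σ q) {a w : Fin n → F} {ζ : F} (r : F) (ht : EIn σ H a w ζ) :
    EIn σ H a (w + r • a) (ζ - r + σ r) := by
  obtain ⟨t, ht, hte⟩ := ht
  refine ⟨t, ht, fun x => ?_⟩
  rw [hte, uh_add_right, uh_smul_right]
  module

theorem EIn.mul {a w w' : Fin n → F} {ζ ζ' : F} (haa : uh σ a a = 0) (haw : uh σ a w = 0)
    (hw'a : uh σ w' a = 0) (ht : EIn σ H a w ζ) (ht' : EIn σ H a w' ζ') :
    EIn σ H a (w + w') (ζ + ζ' - uh σ w' w) := by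
  obtain ⟨t, ht, hte⟩ := ht
  obtain ⟨t', ht', hte'⟩ := ht'
  refine ⟨t * t', mul_mem ht ht', fun x => ?_⟩
  rw [su_mul_mulVec, hte', hte]
  simp only [uh_add_left, uh_smul_left, uh_add_right, haa, haw, hw'a]
  module

theorem EIn.inv {a w : Fin n → F} {ζ : F} (haa : uh σ a a = 0) (haw : uh σ a w = 0)
    (hwa : uh σ w a = 0) (ht : EIn σ H a w ζ) : EIn σ H a (-w) (-ζ - uh σ w w) := by
  obtain ⟨t, ht, hte⟩ := ht
  refine ⟨t⁻¹, inv_mem ht, fun x => ?_⟩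
  conv_rhs => rw [← su_inv_mulVec t (x + uh σ x a • -w +
    ((-ζ - uh σ w w) * uh σ x a - uh σ x (-w)) • a)]
  rw [hte]
  congr 1
  simp only [← neg_one_smul F w, uh_add_left, uh_smul_left, uh_smul_right, map_neg, map_one, haa,
    haw, hwa]
  module

/-- A difference of two transvections. -/
theorem EIn.of_pair (h : UFrob σ q) {a v : Fin n → F} {c : F} (k : F) (hc : σ c = -c) (hvv : uh σ v v = 0)
    (hva : uh σ v a = 0) (h1 : TIn σ H (v + k • a) c) (h2 : TIn σ H v c) :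
    EIn σ H a ((c * σ k) • v) (c * (k * σ k)) := by
  obtain ⟨t, ht, hte⟩ := h1
  obtain ⟨t', ht', hte'⟩ := h2.inv hvv
  refine ⟨t * t', mul_mem ht ht', fun x => ?_⟩
  rw [su_mul_mulVec, hte', hte]
  simp only [uh_add_right, uh_add_left, uh_smul_left, uh_smul_right, map_mul, hc, hvv, hva]
  match_scalars <;> simp [h.invol] <;> ring

theorem eq_top_of_full (h : UFrob σ q)
    (htop : transvGroup n F q = ⊤)
    (hfull : ∀ v, uh σ v v = 0 → v ≠ 0 → Full σ H v) : H = ⊤ := by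
  rw [eq_top_iff, ← htop]
  refine mem_of_eq_utv h fun v c hv hc => ?_
  rcases eq_or_ne v 0 with rfl | hv0
  · convert one_mem H
    exact su_ext fun x => by simp
  obtain ⟨t, ht, hte⟩ := hfull v hv hv0 c hc
  convert ht
  exact su_ext fun x => by rw [utv_mulVec, hte]

end CfsgLib.KnownA.SuGen
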