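import Cfsg.Agent.Lib.KnownA.SuGen.Three

/-!
Elements of the three dimensional special unitary group in a hyperbolic frame, and a criterion
for generation from one element of a Borel subgroup with a large torus part.
-/

set_option autoImplicit false

namespace CfsgLib.KnownA.SuGen

open Matrix CfsgLib.Classical CfsgLib.Classical.Unitary

variable {F : Type*} [Field F] {σ : F →+* F} {q : ℕ}

/-- The matrix with the frame as columns. -/
def frameMat (B : HFrame σ 3 1) : Matrix (Fin 3) (Fin 3) F :=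
  Matrix.of fun i j => ![B.e 0, B.d, B.f 0] j i

theorem frameMat_mulVec (B : HFrame σ 3 1) (v : Fin 3 → F) :
    frameMat B *ᵥ v = v 0 • B.e 0 + v 1 • B.d + v 2 • B.f 0 := by
  funext i
  simp [frameMat, Matrix.mulVec, dotProduct, Fin.sum_univ_three]
  ring

theorem det_frameMat (B : HFrame σ 3 1) : (frameMat B).det ≠ 0 := by
  intro e
  obtain ⟨v, hv0, hv⟩ := Matrix.exists_mulVec_eq_zero_iff.2 e
  rw [frameMat_mulVec] at hv
  refine hv0 (funext fun j => ?_)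
  have h1 := congrArg (fun x => uh σ x (B.e 0)) hv
  have h2 := congrArg (fun x => uh σ x B.d) hv
  have h3 := congrArg (fun x => uh σ x (B.f 0)) hv
  simp [uh_add_left, uh_smul_left, uh_zero_left, B.ee, B.ed, B.de, B.fe, B.ef, B.fd, B.df, B.ff,
    B.dd] at h1 h2 h3
  fin_cases j <;> simp [h1, h2, h3]

/-- The determinant read off in the frame. -/
theorem det_eq_one_frame (B : HFrame σ 3 1) (g : Cfsg.SU 3 F q) (N : Matrix (Fin 3) (Fin 3) F)
    (h0 : g.1.1 *ᵥ B.e 0 = N 0 0 • B.e 0 + N 1 0 • B.d + N 2 0 • B.f 0)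
    (h1 : g.1.1 *ᵥ B.d = N 0 1 • B.e 0 + N 1 1 • B.d + N 2 1 • B.f 0)
    (h2 : g.1.1 *ᵥ B.f 0 = N 0 2 • B.e 0 + N 1 2 • B.d + N 2 2 • B.f 0) : N.det = 1 := by
  have e : g.1.1 * frameMat B = frameMat B * N := by
    refine Matrix.ext_iff_mulVec.2 fun v => ?_
    rw [← mulVec_mulVec, ← mulVec_mulVec, frameMat_mulVec, frameMat_mulVec, mulVec_add, mulVec_add,
      mulVec_smul, mulVec_smul, mulVec_smul, h0, h1, h2]
    simp only [Matrix.mulVec, dotProduct, Fin.sum_univ_three]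
    module
  have := congrArg Matrix.det e
  rw [det_mul, det_mul, g.1.2, one_mul] at this
  exact mul_left_cancel₀ (det_frameMat B) (by rw [← this, mul_one])

theorem HFrame.three_expand (B : HFrame σ 3 1) (x : Fin 3 → F) :
    x = uh σ x (B.f 0) • B.e 0 + uh σ x B.d • B.d + uh σ x (B.e 0) • B.f 0 := by
  refine B.ext_coord (fun i => ?_) (fun i => ?_) ?_ <;>
    (try obtain rfl : i = 0 := Subsingleton.elim _ _) <;>
    simp [uh_add_left, uh_smul_left, B.ee, B.ed, B.de, B.fe, B.ef, B.fd, B.df, B.ff, B.dd]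

/-- The monomial element exchanging the two isotropic lines. -/
theorem exists_mono [Finite F] (hF : Nat.card F = q ^ 2) (h : UFrob σ q) (B : HFrame σ 3 1) {r : F}
    (hr : r ≠ 0) :
    ∃ g : Cfsg.SU 3 F q, g.1.1 *ᵥ B.e 0 = r • B.f 0 ∧ g.1.1 *ᵥ B.f 0 = (σ r)⁻¹ • B.e 0 ∧
      g.1.1 *ᵥ B.d = (-σ r / r) • B.d := by
  obtain ⟨g, χ, -, h0, h2, h1⟩ := exists_pair_map hF h (by omega) B hr
  refine ⟨g, h0, h2, ?_⟩
  have := det_eq_one_frame B g !![0, 0, (σ r)⁻¹; 0, χ, 0; r, 0, 0]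
    (by simp [h0]) (by simp [h1]) (by simp [h2])
  rw [Matrix.det_fin_three] at this
  simp at this
  have hr' : σ r ≠ 0 := (map_ne_zero σ).2 hr
  rw [h1]
  congr 1
  field_simp at this ⊢
  linear_combination -this

/-- The element `x ↦ x + h(x,b) a d + (z h(x,b) - σa h(x,d)) b`. -/
theorem exists_radical_elt (h : UFrob σ q) (B : HFrame σ 3 1) {a z : F}
    (hz : z + σ z + a * σ a = 0) :
    ∃ u : Cfsg.SU 3 F q, ∀ x, u.1.1 *ᵥ x = x + (a * uh σ x (B.e 0)) • B.d +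
      (z * uh σ x (B.e 0) - σ a * uh σ x B.d) • B.e 0 :=
  ⟨usg h (B.e 0) B.d a z (B.ee 0 0) (B.de 0) (by rw [B.dd, mul_one, hz]),
    fun x => usg_mulVec h _ _ x _ _ _ _ _⟩

/-- Conjugacy in the unipotent radical. -/
theorem radical_conj [Finite F] (hF : Nat.card F = q ^ 2) (h : UFrob σ q) (B : HFrame σ 3 1)
    {a₀ z₀ a₁ z₁ t : F} (ht : t ≠ 0) (ha : a₁ = a₀ * (σ t ^ 2 / t)) (ha₀ : a₀ ≠ 0)
    (hz₀ : z₀ + σ z₀ + a₀ * σ a₀ = 0) (hz₁ : z₁ + σ z₁ + a₁ * σ a₁ = 0) {u₀ u₁ : Cfsg.SU 3 F q}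
    (h₀ : ∀ x, u₀.1.1 *ᵥ x = x + (a₀ * uh σ x (B.e 0)) • B.d +
      (z₀ * uh σ x (B.e 0) - σ a₀ * uh σ x B.d) • B.e 0)
    (h₁ : ∀ x, u₁.1.1 *ᵥ x = x + (a₁ * uh σ x (B.e 0)) • B.d +
      (z₁ * uh σ x (B.e 0) - σ a₁ * uh σ x B.d) • B.e 0) :
    ∃ k : Cfsg.SU 3 F q, k * u₀ * k⁻¹ = u₁ := by
  have ht' : σ t ≠ 0 := (map_ne_zero σ).2 ht
  obtain ⟨n1, n1e, n1f, n1d⟩ := exists_mono hF h B (r := (σ t)⁻¹) (inv_ne_zero ht')
  obtain ⟨n2, n2e, n2f, n2d⟩ := exists_mono hF h B (r := (1 : F)) one_ne_zero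
  set T := n1 * n2
  have Te : T.1.1 *ᵥ B.e 0 = t • B.e 0 := by
    rw [su_mul_mulVec, n2e, one_smul, n1f, map_inv₀, h.invol, inv_inv]
  have Td : T.1.1 *ᵥ B.d = (σ t / t) • B.d := by
    rw [su_mul_mulVec, n2d, map_one, mulVec_smul, n1d, smul_smul, map_inv₀, h.invol]
    congr 1
    field_simp
  set D := z₁ - z₀ * (t * σ t) with hDdef
  have hD : D + σ D = 0 := by
    rw [ha, map_mul, map_div₀, map_pow, h.invol] at hz₁
    rw [hDdef, map_sub, map_mul, map_mul, h.invol]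
    field_simp at hz₁
    refine mul_left_cancel₀ (mul_ne_zero ht ht') ?_
    linear_combination (t * σ t) * hz₁ - (t * σ t) ^ 2 * hz₀
  obtain ⟨θ, hθ⟩ := exists_trace h
  have hσD : σ D = -D := by linear_combination hD
  obtain ⟨r, hr⟩ : ∃ r, r = θ * D / σ a₁ := ⟨_, rfl⟩
  have ha₁ : a₁ ≠ 0 := by
    rw [ha]; exact mul_ne_zero ha₀ (div_ne_zero (pow_ne_zero _ ht') ht)
  have hσa₁ : σ a₁ ≠ 0 := (map_ne_zero σ).2 ha₁
  obtain ⟨g1, hg1⟩ := exists_radical_elt h B (a := r) (z := -(θ * (r * σ r))) (by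
    rw [map_neg, map_mul, map_mul, h.invol]; linear_combination (-(r * σ r)) * hθ)
  refine ⟨g1 * T, ?_⟩
  rw [mul_inv_eq_iff_eq_mul]
  refine su_ext fun x => ?_
  set y := T.1.1 *ᵥ x with hy
  have hye : uh σ y (B.e 0) = (σ t)⁻¹ * uh σ x (B.e 0) := by
    have e := su_uh h T x (B.e 0)
    rw [Te, uh_smul_right, ← hy] at e
    rw [← e]; field_simp
  have hyd : uh σ y B.d = (σ t / t) * uh σ x B.d := by
    have e := su_uh h T x B.d
    rw [Td, uh_smul_right, ← hy, map_div₀, h.invol] at e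
    rw [← e]; field_simp
  have hTu : T.1.1 *ᵥ (u₀.1.1 *ᵥ x) = y + (a₁ * uh σ y (B.e 0)) • B.d +
      (z₀ * (t * σ t) * uh σ y (B.e 0) - σ a₁ * uh σ y B.d) • B.e 0 := by
    rw [h₀, mulVec_add, mulVec_add, mulVec_smul, mulVec_smul, Te, Td, ← hy, hye, hyd, ha, map_mul,
      map_div₀, map_pow, h.invol]
    match_scalars <;> field_simp
  simp only [su_mul_mulVec]
  rw [hTu, ← hy, h₁ (g1.1.1 *ᵥ y), hg1, hg1]
  simp only [uh_add_left, uh_smul_left, B.ee, B.de, B.ed, B.dd]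
  match_scalars <;> simp only [hr, hDdef.symm, map_div₀, map_mul, h.invol, hσD] <;> field_simp <;>
    (try ring_nf) <;> (try simp only [hDdef]) <;>
    first
      | ring1
      | linear_combination (uh σ y (B.e 0) * σ a₁ * a₁ * D) * hθ
      | linear_combination (-(uh σ y (B.e 0) * σ a₁ * a₁ * D)) * hθ

set_option maxHeartbeats 1000000 in
/-- The criterion. -/
theorem top_of_borel [Finite F] (h : UFrob σ q) (htop : transvGroup 3 F q = ⊤) (B : HFrame σ 3 1)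
    {H : Subgroup (Cfsg.SU 3 F q)} {a z μ : F} (ha0 : a ≠ 0)
    (huE : EIn σ H (B.e 0) (a • B.d) z) {t x0 : Cfsg.SU 3 F q} (ht : t ∈ H) (hx0 : x0 ∈ H)
    (hμ : μ ≠ 0) (htb : t.1.1 *ᵥ B.e 0 = μ • B.e 0)
    (hx : uh σ (x0.1.1 *ᵥ B.e 0) (B.e 0) ≠ 0)
    (hgen : Subring.closure ({σ μ * (σ μ / μ)} : Set F) = ⊤) : H = ⊤ := by
  set b := B.e 0 with hb
  have hdb : uh σ B.d b = 0 := B.de 0
  have hbd : uh σ b B.d = 0 := B.ed 0
  have hbb : uh σ b b = 0 := B.ee 0 0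
  have hμ' : σ μ ≠ 0 := (map_ne_zero σ).2 hμ
  have hdb' : uh σ (t.1.1 *ᵥ B.d) b = 0 := by
    have h1 : uh σ (t.1.1 *ᵥ B.d) (t.1.1 *ᵥ b) = 0 := by rw [su_uh h, hdb]
    rw [htb, uh_smul_right, mul_eq_zero] at h1
    exact h1.resolve_left hμ'
  have hfb' : uh σ (t.1.1 *ᵥ B.f 0) b = (σ μ)⁻¹ := by
    have h1 : uh σ (t.1.1 *ᵥ B.f 0) (t.1.1 *ᵥ b) = 1 := by rw [su_uh h, hb, B.fe, if_pos rfl]
    rw [htb, uh_smul_right] at h1
    exact eq_inv_of_mul_eq_one_right h1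
  have hκ : uh σ (t.1.1 *ᵥ B.d) B.d = σ μ / μ := by
    have e1 := B.three_expand (t.1.1 *ᵥ B.d)
    have e2 := B.three_expand (t.1.1 *ᵥ B.f 0)
    rw [← hb, hdb'] at e1
    rw [← hb, hfb'] at e2
    have := det_eq_one_frame B t
      !![μ, uh σ (t.1.1 *ᵥ B.d) (B.f 0), uh σ (t.1.1 *ᵥ B.f 0) (B.f 0);
        0, uh σ (t.1.1 *ᵥ B.d) B.d, uh σ (t.1.1 *ᵥ B.f 0) B.d; 0, 0, (σ μ)⁻¹]
      (by simp [← hb, htb]) (by simpa [← hb] using e1) (by simpa [← hb] using e2)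
    rw [Matrix.det_fin_three] at this
    simp at this
    field_simp at this ⊢
    linear_combination this
  obtain ⟨k, htd⟩ : ∃ k : F, t.1.1 *ᵥ B.d = (σ μ / μ) • B.d + k • b := by
    refine ⟨uh σ (t.1.1 *ᵥ B.d) (B.f 0), ?_⟩
    conv_lhs => rw [B.three_expand (t.1.1 *ᵥ B.d)]
    rw [← hb, hdb', hκ, zero_smul, add_zero, add_comm]
  -- the unipotent radical
  let X : F → Prop := fun x => ∃ ζ, EIn σ H b (x • B.d) ζ
  have hXadd : ∀ {x y}, X x → X y → X (x + y) := by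
    rintro x y ⟨ζ, hx⟩ ⟨ζ', hy⟩
    exact ⟨_, (hx.mul hbb (by rw [uh_smul_right, hbd, mul_zero])
      (by rw [uh_smul_left, hdb, mul_zero]) hy).congr (by rw [add_smul]) rfl⟩
  have hXneg : ∀ {x}, X x → X (-x) := by
    rintro x ⟨ζ, hx⟩
    exact ⟨_, (hx.inv hbb (by rw [uh_smul_right, hbd, mul_zero])
      (by rw [uh_smul_left, hdb, mul_zero])).congr (by rw [neg_smul]) rfl⟩
  set φ := σ μ * (σ μ / μ) with hφ
  have hXφ : ∀ {x}, X x → X (φ * x) := by
    rintro x ⟨ζ, hx⟩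
    have h1 := (hx.move h ht htb (by rw [mulVec_smul, htd])).unscale h μ
    exact ⟨_, (h1.shift h (-(σ μ * (x * k)))).congr (by rw [hφ]; module) rfl⟩
  let R : Subring F :=
    { carrier := {y | ∀ m, X m → X (y * m)}
      mul_mem' := fun {p q} hp hq m hm => by rw [mul_assoc]; exact hp _ (hq m hm)
      one_mem' := fun m hm => by rw [one_mul]; exact hm
      add_mem' := fun {p q} hp hq m hm => by rw [add_mul]; exact hXadd (hp m hm) (hq m hm)
      zero_mem' := fun m hm => by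
        rw [zero_mul, ← add_neg_cancel m]; exact hXadd hm (hXneg hm)
      neg_mem' := fun {p} hp m hm => by rw [neg_mul]; exact hXneg (hp m hm) }
  have hall : ∀ x, X x := fun x => by
    have := subring_top_of_gen (R := R) (show φ ∈ R from fun m hm => hXφ hm) hgen (x / a) a
      ⟨_, huE⟩
    rwa [div_mul_cancel₀ _ ha0] at this
  have hFb : Full σ H b := by
    intro D hD
    obtain ⟨θ, hθ⟩ := exists_trace h
    obtain ⟨ζ₁, h1⟩ := hall (θ * D)
    obtain ⟨ζ₂, h2⟩ := hall 1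
    have o1 : ∀ x : F, uh σ b (x • B.d) = 0 := fun x => by rw [uh_smul_right, hbd, mul_zero]
    have o2 : ∀ x : F, uh σ (x • B.d) b = 0 := fun x => by rw [uh_smul_left, hdb, mul_zero]
    have e1 := h1.mul hbb (o1 _) (o2 _) h2
    have e2 := (h2.mul hbb (o1 _) (o2 _) h1).inv hbb
      (by rw [uh_add_right, o1, o1, add_zero]) (by rw [uh_add_left, o2, o2, add_zero])
    have e3 := e1.mul hbb (by rw [uh_add_right, o1, o1, add_zero])
      (by rw [← neg_one_smul F (_ + _), uh_smul_left, uh_add_left, o2, o2, add_zero, mul_zero]) e2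
    refine (e3.congr (w' := 0) (by abel) ?_).toT
    simp only [← neg_one_smul F (_ + _), uh_smul_left, uh_smul_right, uh_add_left, uh_add_right,
      B.dd, map_one, map_mul]
    rw [show σ D = -D by linear_combination hD]
    linear_combination D * hθ
  have hrad : Radical B H (0 : Fin 1) := by
    intro x hxW
    obtain ⟨ζ, hz⟩ := hall (uh σ x B.d)
    refine ⟨ζ, hz.congr (B.ext_coord (fun i => ?_) (fun i => ?_) ?_) rfl⟩
    · rw [uh_smul_left, B.de, mul_zero, (hxW i (by omega)).1]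
    · rw [uh_smul_left, B.df, mul_zero, (hxW i (by omega)).2]
    · rw [uh_smul_left, B.dd, mul_one]
  obtain ⟨c, hc, hc0⟩ : ∃ c : F, σ c = -c ∧ c ≠ 0 := by
    by_contra hno
    push Not at hno
    exact h.ne (RingHom.ext fun y => by
      have := hno (y - σ y) (by rw [map_sub, h.invol]; ring)
      exact (sub_eq_zero.1 this).symm)
  obtain ⟨-, hS⟩ := spread_of_radical h hc hc0 (0 : Fin 1) hFb hrad (hFb.move h hx0 rfl)
    (fun j hj => absurd hj (Nat.not_lt_zero _)) (by rw [su_uh h, hbb]) hx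
  exact eq_top_of_full h htop fun x hxx hx0 =>
    (hS x (fun j hj => absurd hj (Nat.not_lt_zero _)) hxx hx0).1

end CfsgLib.KnownA.SuGen
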