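import Cfsg.Agent.Lib.KnownA.SuGen.Basic

/-!
Spreading full transvection groups over a hyperbolic frame of odd dimension.
-/

set_option autoImplicit false

namespace CfsgLib.KnownA.SuGen

open Matrix CfsgLib.Classical CfsgLib.Classical.Unitary

variable {F : Type*} [Field F] {σ : F →+* F} {q n m : ℕ}

/-- `m` hyperbolic pairs and an anisotropic vector spanning the space. -/
structure HFrame (σ : F →+* F) (n m : ℕ) where
  e : Fin m → (Fin n → F)
  f : Fin m → (Fin n → F)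
  d : Fin n → F
  ee : ∀ i j, uh σ (e i) (e j) = 0
  ff : ∀ i j, uh σ (f i) (f j) = 0
  ef : ∀ i j, uh σ (e i) (f j) = if i = j then 1 else 0
  fe : ∀ i j, uh σ (f i) (e j) = if i = j then 1 else 0
  ed : ∀ i, uh σ (e i) d = 0
  de : ∀ i, uh σ d (e i) = 0
  fd : ∀ i, uh σ (f i) d = 0
  df : ∀ i, uh σ d (f i) = 0
  dd : uh σ d d = 1
  complete : ∀ x, (∀ i, uh σ x (e i) = 0) → (∀ i, uh σ x (f i) = 0) → uh σ x d = 0 → x = 0

variable (B : HFrame σ n m)

/-- The vectors orthogonal to the first `k` pairs. -/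
def HFrame.InW (k : ℕ) (x : Fin n → F) : Prop :=
  ∀ j : Fin m, j.val < k → uh σ x (B.e j) = 0 ∧ uh σ x (B.f j) = 0

variable {B}

theorem HFrame.InW.add {k : ℕ} {x y : Fin n → F} (hx : B.InW k x) (hy : B.InW k y) :
    B.InW k (x + y) := fun j hj => by
  simp [uh_add_left, (hx j hj).1, (hx j hj).2, (hy j hj).1, (hy j hj).2]

theorem HFrame.InW.smul {k : ℕ} {x : Fin n → F} (r : F) (hx : B.InW k x) :
    B.InW k (r • x) := fun j hj => by simp [uh_smul_left, (hx j hj).1, (hx j hj).2]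

theorem HFrame.InW.mono {k k' : ℕ} {x : Fin n → F} (hx : B.InW k' x) (hk : k ≤ k') :
    B.InW k x := fun j hj => hx j (by omega)

theorem HFrame.e_ne_zero (B : HFrame σ n m) (i : Fin m) : B.e i ≠ 0 := fun e => by
  have := B.ef i i
  rw [e, uh_zero_left, if_pos rfl] at this
  exact zero_ne_one this

theorem HFrame.inW_e {k : ℕ} {i : Fin m} (hi : k ≤ i.val) : B.InW k (B.e i) := fun j hj =>
  ⟨B.ee i j, by rw [B.ef, if_neg (fun e => by rw [e] at hi; omega)]⟩

theorem HFrame.inW_f {k : ℕ} {i : Fin m} (hi : k ≤ i.val) : B.InW k (B.f i) := fun j hj =>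
  ⟨by rw [B.fe, if_neg (fun e => by rw [e] at hi; omega)], B.ff i j⟩

/-- Splitting off one pair. -/
theorem HFrame.split (p : Fin m) {x : Fin n → F} (hx : B.InW p.val x) :
    B.InW (p.val + 1) (x - uh σ x (B.f p) • B.e p - uh σ x (B.e p) • B.f p) := by
  intro j hj
  simp only [uh_sub_left, uh_smul_left, B.ee, B.ff, B.ef, B.fe]
  rcases Nat.lt_succ_iff_lt_or_eq.1 hj with h' | h'
  · have hne : p ≠ j := fun e => by rw [e] at h'; omega
    simp [(hx j h').1, (hx j h').2, hne]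
  · obtain rfl : p = j := Fin.ext h'.symm
    simp

theorem HFrame.perp (p : Fin m) {k : ℕ} (hk : p.val < k) {x : Fin n → F} (hx : B.InW k x)
    (h : UFrob σ q) :
    uh σ (B.e p) x = 0 ∧ uh σ (B.f p) x = 0 ∧ uh σ x (B.e p) = 0 ∧ uh σ x (B.f p) = 0 :=
  ⟨h.swap_zero (hx p hk).1, h.swap_zero (hx p hk).2, (hx p hk).1, (hx p hk).2⟩

variable {H : Subgroup (Cfsg.SU n F q)}

theorem Full.move (h : UFrob σ q) {g : Cfsg.SU n F q} (hg : g ∈ H) {v v' : Fin n → F}
    (hv : Full σ H v) (e : g.1.1 *ᵥ v = v') : Full σ H v' := fun c hc => (hv c hc).move h hg e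

theorem Full.back (h : UFrob σ q) {g : Cfsg.SU n F q} (hg : g ∈ H) {v v' : Fin n → F}
    (hv : Full σ H v') (e : g.1.1 *ᵥ v = v') : Full σ H v :=
  hv.move h (inv_mem hg) (by rw [← e, su_inv_mulVec])

theorem Full.cast_full {v v' : Fin n → F} (hv : Full σ H v) (e : v = v') : Full σ H v' := e ▸ hv

theorem Full.smul (h : UFrob σ q) {v : Fin n → F} (r : F) (hv : Full σ H v) :
    Full σ H (r • v) := fun c hc => TIn.smul r (hv _ (by
      simp only [map_mul, h.invol]; linear_combination (r * σ r) * hc))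

/-- The radical of `a` gives Siegel elements from full isotropic vectors. -/
theorem ein_of_full (h : UFrob σ q) {a x : Fin n → F} (hxx : uh σ x x = 0) (hxa : uh σ x a = 0)
    (hfull : ∀ r : F, Full σ H (r • x + a)) {c : F} (hc : σ c = -c) (hc0 : c ≠ 0)
    (hx : Full σ H x) : ∃ ζ, EIn σ H a x ζ := by
  have h1 : c + σ c = 0 := by rw [hc, add_neg_cancel]
  refine ⟨_, (EIn.of_pair h (v := c⁻¹ • x) (a := a) 1 hc
    (by simp [uh_smul_left, uh_smul_right, hxx]) (by simp [uh_smul_left, hxa]) ?_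
    (hx.smul h _ c h1)).congr (by rw [map_one, mul_one, smul_smul, mul_inv_cancel₀ hc0, one_smul])
      rfl⟩
  rw [one_smul]
  exact hfull c⁻¹ c h1

/-- All the Siegel elements at `e p` with vector in the next space. -/
def Radical (B : HFrame σ n m) (H : Subgroup (Cfsg.SU n F q)) (p : Fin m) : Prop :=
  ∀ x, B.InW (p.val + 1) x → ∃ ζ, EIn σ H (B.e p) x ζ

/-- Fullness and transitivity on one space. -/
def Spread (B : HFrame σ n m) (H : Subgroup (Cfsg.SU n F q)) (p : Fin m) : Prop :=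
  ∀ x, B.InW p.val x → uh σ x x = 0 → x ≠ 0 → Full σ H x ∧
    ∃ g ∈ H, (∀ j : Fin m, j.val < p.val → g.1.1 *ᵥ B.e j = B.e j) ∧
      ∃ r : F, g.1.1 *ᵥ x = r • B.e p

set_option maxHeartbeats 1000000 in
theorem spread_of_radical (h : UFrob σ q) {c : F} (hc : σ c = -c) (hc0 : c ≠ 0) (p : Fin m)
    (hep : Full σ H (B.e p)) (hrad : Radical B H p) {v : Fin n → F} (hv : Full σ H v)
    (hvW : B.InW p.val v) (hvv : uh σ v v = 0) (hve : uh σ v (B.e p) ≠ 0) :
    Full σ H (B.f p) ∧ Spread B H p := by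
  have hc' : c + σ c = 0 := by rw [hc, add_neg_cancel]
  -- moving vectors not orthogonal to `e p` onto `f p`
  have key : ∀ y, B.InW p.val y → uh σ y y = 0 → uh σ y (B.e p) ≠ 0 →
      ∃ g ∈ H, (∀ j : Fin m, j.val < p.val → g.1.1 *ᵥ B.e j = B.e j) ∧
        g.1.1 *ᵥ (uh σ y (B.e p) • B.f p) = y := by
    intro y hy hyy hye
    set α := uh σ y (B.e p) with hα
    set β := uh σ y (B.f p) with hβ
    set y' := y - β • B.e p - α • B.f p with hy'
    have hy'W : B.InW (p.val + 1) y' := B.split p hy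
    obtain ⟨he', hf', he'', hf''⟩ := B.perp p (k := p.val + 1) (by omega) hy'W h
    obtain ⟨ζ, g, hg, hge⟩ := hrad (α⁻¹ • y') (hy'W.smul _)
    have hgf : g.1.1 *ᵥ B.f p = B.f p + α⁻¹ • y' + ζ • B.e p := by
      rw [hge, B.fe, if_pos rfl, uh_smul_right, hf', one_smul]
      simp
    set η := β / α - ζ with hη
    have hη0 : η + σ η = 0 := by
      have h0 : uh σ (g.1.1 *ᵥ B.f p) (g.1.1 *ᵥ B.f p) = 0 := by rw [su_uh h, B.ff]
      rw [hgf] at h0
      have hy0 : uh σ y y = β * σ α + α * σ β + uh σ y' y' := by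
        conv_lhs => rw [show y = y' + β • B.e p + α • B.f p by rw [hy']; abel]
        simp only [uh_add_left, uh_add_right, uh_smul_left, uh_smul_right, B.ee, B.ff, B.ef, B.fe,
          if_pos, he', hf', he'', hf'']
        ring
      simp only [uh_add_left, uh_add_right, uh_smul_left, uh_smul_right, B.ee, B.ff, B.ef, B.fe,
        if_pos, he', hf', he'', hf''] at h0
      rw [hyy] at hy0
      rw [hη, map_sub, map_div₀]
      have hα' : σ α ≠ 0 := (map_ne_zero σ).2 hye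
      have : uh σ y' y' = -(β * σ α + α * σ β) := by linear_combination -hy0
      rw [this, map_inv₀] at h0
      field_simp at h0 ⊢
      linear_combination -h0
    obtain ⟨t, ht, hte⟩ := hep η hη0
    refine ⟨t * g, mul_mem ht hg, fun j hj => ?_, ?_⟩
    · have hne : j ≠ p := fun e => by rw [e] at hj; omega
      rw [su_mul_mulVec, hge, B.ee, uh_smul_right, h.swap_zero ((hy'W j (by omega)).1)]
      simp [hte, B.ee]
    · rw [su_mul_mulVec, mulVec_smul, hgf, mulVec_smul, hte]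
      simp only [uh_add_left, uh_smul_left, B.fe, B.ee, he'', if_pos]
      rw [hη, hy']
      match_scalars <;> field_simp <;> ring
  obtain ⟨g, hg, -, hge⟩ := key v hvW hvv hve
  have hf : Full σ H (B.f p) := by
    have h1 := ((hv.back h hg hge).smul h (uh σ v (B.e p))⁻¹)
    rwa [smul_smul, inv_mul_cancel₀ hve, one_smul] at h1
  refine ⟨hf, ?_⟩
  -- from `f p` to a multiple of `e p`
  have swap : ∃ g ∈ H, (∀ j : Fin m, j.val < p.val → g.1.1 *ᵥ B.e j = B.e j) ∧
      g.1.1 *ᵥ B.f p = c • B.e p := by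
    obtain ⟨t, ht, hte⟩ := hep c hc'
    obtain ⟨t', ht', hte'⟩ := hf (-c⁻¹) (by rw [map_neg, map_inv₀, hc, inv_neg]; ring)
    refine ⟨t' * t, mul_mem ht' ht, fun j hj => ?_, ?_⟩
    · have hne : j ≠ p := fun e => by rw [e] at hj; omega
      simp only [su_mul_mulVec, hte, hte', B.ee, B.ef, if_neg hne, mul_zero, zero_smul, add_zero]
    · simp only [su_mul_mulVec, hte, hte', uh_add_left, uh_smul_left, B.fe, B.ff, B.ef, if_pos]
      match_scalars <;> field_simp <;> ring
  have case1 : ∀ y, B.InW p.val y → uh σ y y = 0 → uh σ y (B.e p) ≠ 0 →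
      Full σ H y ∧ ∃ g ∈ H, (∀ j : Fin m, j.val < p.val → g.1.1 *ᵥ B.e j = B.e j) ∧
        ∃ r : F, g.1.1 *ᵥ y = r • B.e p := by
    intro y hy hyy hye
    obtain ⟨g, hg, hgfix, hge⟩ := key y hy hyy hye
    obtain ⟨s, hs, hsfix, hse⟩ := swap
    refine ⟨(hf.smul h _).move h hg hge, s * g⁻¹, mul_mem hs (inv_mem hg), fun j hj => ?_,
      uh σ y (B.e p) * c, ?_⟩
    · rw [su_mul_mulVec]
      conv_lhs => rw [← hgfix j hj]
      rw [su_inv_mulVec, hsfix j hj]
    · rw [su_mul_mulVec]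
      conv_lhs => rw [← hge]
      rw [su_inv_mulVec, mulVec_smul, hse, smul_smul]
  have case2 : ∀ y, B.InW p.val y → uh σ y y = 0 → uh σ y (B.f p) ≠ 0 →
      Full σ H y ∧ ∃ g ∈ H, (∀ j : Fin m, j.val < p.val → g.1.1 *ᵥ B.e j = B.e j) ∧
        ∃ r : F, g.1.1 *ᵥ y = r • B.e p := by
    intro y hy hyy hyf
    by_cases hye : uh σ y (B.e p) = 0
    swap
    · exact case1 y hy hyy hye
    obtain ⟨t, ht, hte⟩ := hf c hc'
    obtain ⟨hy2, g, hg, hgfix, r, hr⟩ := case1 (y + (c * uh σ y (B.f p)) • B.f p)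
      (hy.add ((HFrame.inW_f le_rfl).smul _))
      (by rw [← hte, su_uh h, hyy])
      (by simp [uh_add_left, uh_smul_left, hye, B.fe, hc0, hyf])
    refine ⟨hy2.back h ht (hte y), g * t, mul_mem hg ht, fun j hj => ?_, r, ?_⟩
    · have hne : j ≠ p := fun e => by rw [e] at hj; omega
      rw [su_mul_mulVec, hte, B.ef, if_neg hne, mul_zero, zero_smul, add_zero, hgfix j hj]
    · rw [su_mul_mulVec, hte, hr]
  intro y hy hyy hy0
  by_cases hye : uh σ y (B.e p) = 0
  swap
  · exact case1 y hy hyy hye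
  by_cases hyf : uh σ y (B.f p) = 0
  swap
  · exact case2 y hy hyy hyf
  -- the remaining vectors lie in the next space
  obtain ⟨z, hzW, hyz⟩ : ∃ z, B.InW (p.val + 1) z ∧ uh σ y z ≠ 0 := by
    by_contra hno
    push Not at hno
    have hyW : ∀ j : Fin m, j.val < p.val + 1 → uh σ y (B.e j) = 0 ∧ uh σ y (B.f j) = 0 := fun j hj => by
      rcases Nat.lt_succ_iff_lt_or_eq.1 hj with h' | h'
      · exact hy j h'
      · exact (Fin.ext h' : j = p) ▸ ⟨hye, hyf⟩
    refine hy0 (B.complete y (fun i => ?_) (fun i => ?_) (hno _ fun j _ => ⟨B.de j, B.df j⟩))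
    · by_cases hi : i.val < p.val + 1
      exacts [(hyW i hi).1, hno _ (HFrame.inW_e (by omega))]
    · by_cases hi : i.val < p.val + 1
      exacts [(hyW i hi).2, hno _ (HFrame.inW_f (by omega))]
  obtain ⟨ζ, g, hg, hge⟩ := hrad z hzW
  obtain ⟨hy2, g', hg', hgfix', r, hr⟩ := case2 (g.1.1 *ᵥ y)
    (by
      rw [hge, hye, zero_smul, add_zero, mul_zero, zero_sub]
      exact hy.add ((HFrame.inW_e le_rfl).smul _))
    (by rw [su_uh h, hyy])
    (by
      rw [hge, hye, zero_smul, add_zero, mul_zero, zero_sub, uh_add_left, uh_smul_left, hyf, B.ef,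
        if_pos rfl]
      simpa using hyz)
  refine ⟨hy2.back h hg rfl, g' * g, mul_mem hg' hg, fun j hj => ?_, r, ?_⟩
  · rw [su_mul_mulVec, hge, B.ee, h.swap_zero ((hzW j (by omega)).1)]
    simp [hgfix' j hj]
  · rw [su_mul_mulVec, hr]

/-- The radical from the spread on the next space. -/
theorem radical_of_spread (h : UFrob σ q) {c : F} (hc : σ c = -c) (hc0 : c ≠ 0) {p k : Fin m}
    (hk : k.val = p.val + 1) (hsum : ∀ r : F, Full σ H (B.e p + r • B.e k))
    (hS : Spread B H k) : Radical B H p := by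
  have iso : ∀ x, B.InW k.val x → uh σ x x = 0 → ∃ ζ, EIn σ H (B.e p) x ζ := by
    intro x hx hxx
    rcases eq_or_ne x 0 with rfl | hx0
    · exact ⟨0, (TIn.zero _).toE⟩
    obtain ⟨hxF, g, hg, hgfix, r, hr⟩ := hS x hx hxx hx0
    refine ein_of_full h hxx (hx p (by omega)).1 (fun s => ?_) hc hc0 hxF
    refine (hsum (s * r)).back h hg ?_
    rw [mulVec_add, mulVec_smul, hr, hgfix p (by omega), smul_smul, add_comm]
  intro x hx
  rw [← hk] at hx
  have hx' := B.split k hx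
  set α := uh σ x (B.e k)
  set β := uh σ x (B.f k)
  set y := x - β • B.e k - α • B.f k
  obtain ⟨he', hf', he'', hf''⟩ := B.perp k (k := k.val + 1) (by omega) hx' h
  obtain ⟨θ, hθ⟩ := exists_trace h
  set ξ := -(θ * uh σ y y)
  obtain ⟨ζ₁, h1⟩ := iso (B.f k + y + ξ • B.e k)
    (((HFrame.inW_f le_rfl).add (hx'.mono (by omega))).add ((HFrame.inW_e le_rfl).smul _)) (by
      have hre : σ (uh σ y y) = uh σ y y := h.symm y y
      simp only [uh_add_left, uh_add_right, uh_smul_left, uh_smul_right, B.ee, B.ff, B.ef, B.fe,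
        if_pos, he', hf', he'', hf'', ξ, map_neg, map_mul, hre]
      linear_combination (-uh σ y y) * hθ)
  obtain ⟨ζ₂, h2⟩ := iso ((α - 1) • B.f k) ((HFrame.inW_f le_rfl).smul _)
    (by simp [uh_smul_left, uh_smul_right, B.ff])
  obtain ⟨ζ₃, h3⟩ := iso ((β - ξ) • B.e k) ((HFrame.inW_e le_rfl).smul _)
    (by simp [uh_smul_left, uh_smul_right, B.ee])
  have hne : p ≠ k := fun e => by rw [e] at hk; omega
  have hWp : ∀ z, B.InW k.val z → uh σ (B.e p) z = 0 ∧ uh σ z (B.e p) = 0 := fun z hz =>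
    ⟨h.swap_zero (hz p (by omega)).1, (hz p (by omega)).1⟩
  have W1 := (((HFrame.inW_f le_rfl).add (hx'.mono (by omega))).add
    ((HFrame.inW_e (B := B) (i := k) le_rfl).smul ξ))
  have W2 := (HFrame.inW_f (B := B) (i := k) le_rfl).smul (α - 1)
  have W3 := (HFrame.inW_e (B := B) (i := k) le_rfl).smul (β - ξ)
  have h4 := (h1.mul (B.ee p p) (hWp _ W1).1 (hWp _ W2).2 h2).mul (B.ee p p)
    (hWp _ (W1.add W2)).1 (hWp _ W3).2 h3
  exact ⟨_, h4.congr (by simp only [y]; module) rfl⟩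

set_option maxHeartbeats 1000000 in
theorem eq_top_of_frame (h : UFrob σ q) (htop : transvGroup n F q = ⊤) {c : F} (hc : σ c = -c)
    (hc0 : c ≠ 0) (u w : Cfsg.SU n F q) (hu : u ∈ H) (hw : w ∈ H)
    (hue : ∀ i k : Fin m, k.val = i.val + 1 → u.1.1 *ᵥ B.e k = B.e k + B.e i)
    (hwe : ∀ i k : Fin m, k.val + 1 < m + 1 → k.val = i.val + 1 → w.1.1 *ᵥ (B.e i + B.e k) = B.e i)
    (hwf : ∀ i k : Fin m, k.val = i.val + 1 → k.val + 1 < m → w.1.1 *ᵥ B.f k = B.f k + B.f i)
    (hu0 : ∀ i : Fin m, i.val = 0 → u.1.1 *ᵥ B.e i = B.e i)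
    (a b : Fin m) (hab : b.val = a.val + 1) (hbm : b.val + 1 = m)
    (hea : Full σ H (B.e a)) (hsum : ∀ r : F, Full σ H (B.e a + r • B.e b))
    (hrad : Radical B H a) {v : Fin n → F} (hv : Full σ H v) (hvW : B.InW a.val v)
    (hvv : uh σ v v = 0) (hve : uh σ v (B.e a) ≠ 0) : H = ⊤ := by
  have g : ∀ i k : Fin m, k.val = i.val + 1 → (u⁻¹ * w⁻¹).1.1 *ᵥ B.e i = B.e k := by
    intro i k hk
    have e1 : (w⁻¹).1.1 *ᵥ B.e i = B.e i + B.e k := by
      conv_lhs => rw [← hwe i k (by omega) hk]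
      rw [su_inv_mulVec]
    rw [su_mul_mulVec, e1, show B.e i + B.e k = u.1.1 *ᵥ B.e k by rw [hue i k hk, add_comm],
      su_inv_mulVec]
  have hg : u⁻¹ * w⁻¹ ∈ H := mul_mem (inv_mem hu) (inv_mem hw)
  have hS : ∀ d : ℕ, ∀ p k : Fin m, k.val = p.val + 1 → p.val + d = a.val →
      Full σ H (B.e p) ∧ (∀ r : F, Full σ H (B.e p + r • B.e k)) ∧ Full σ H (B.f p) ∧
        Spread B H p := by
    intro d
    induction d with
    | zero =>
      intro p k hk hpa
      obtain rfl : p = a := Fin.ext (by omega)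
      obtain rfl : k = b := Fin.ext (by omega)
      exact ⟨hea, hsum, spread_of_radical h hc hc0 p hea hrad hv hvW hvv hve⟩
    | succ d ih =>
      intro p k hk hpa
      let k' : Fin m := ⟨k.val + 1, by omega⟩
      obtain ⟨hek, hsk, hfk, hSk⟩ := ih k k' rfl (by omega)
      have hep : Full σ H (B.e p) := hek.back h hg (g p k hk)
      have hsp : ∀ r : F, Full σ H (B.e p + r • B.e k) := fun r =>
        (hsk r).back h hg (by rw [mulVec_add, mulVec_smul, g p k hk, g k k' rfl])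
      refine ⟨hep, hsp, spread_of_radical h hc hc0 p hep (radical_of_spread h hc hc0 hk hsp hSk)
        (hfk.move h hw (hwf p k hk (by omega))) ?_ ?_ ?_⟩
      · exact (HFrame.inW_f (by omega)).add (HFrame.inW_f le_rfl)
      · rw [← hwf p k hk (by omega), su_uh h, B.ff]
      · rw [uh_add_left, B.fe, B.fe, if_pos rfl, if_neg (fun e => by rw [e] at hk; omega), zero_add]
        exact one_ne_zero
  obtain ⟨-, -, -, hS0⟩ := hS a.val ⟨0, by omega⟩ ⟨1, by omega⟩ rfl (by simp)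
  exact eq_top_of_full h htop fun x hxx hx0 =>
    (hS0 x (fun j hj => absurd hj (Nat.not_lt_zero _)) hxx hx0).1

end CfsgLib.KnownA.SuGen
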