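import Cfsg.Agent.Lib.KnownA.SuGen.Closure
import Cfsg.Agent.Lib.Classical.UnitaryGen

/-!
A hyperbolic frame of odd dimension and two opposite regular unipotent elements.
-/

set_option autoImplicit false

namespace CfsgLib.KnownA.SuGen

open Matrix CfsgLib.Classical CfsgLib.Classical.Unitary

variable {F : Type*} [Field F] {σ : F →+* F} {q n m : ℕ}

theorem uh_sum_left {ι : Type*} (s : Finset ι) (v : ι → Fin n → F) (x : Fin n → F) :
    uh σ (∑ i ∈ s, v i) x = ∑ i ∈ s, uh σ (v i) x := sum_dotProduct _ _ _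

theorem exists_frame [Finite F] (hF : Nat.card F = q ^ 2) (h : UFrob σ q) (hn : n = 2 * m + 1) :
    Nonempty (HFrame σ n m) := by
  classical
  obtain ⟨t, ht⟩ := exists_pow_succ_eq hF (c := -1) (by rw [← h.pow, map_neg, map_one])
  have htn : t * σ t = -1 := by rw [h.pow, ← pow_succ']; exact ht
  obtain ⟨η, hη, hη2⟩ := exists_normOne_sq_ne_one hF
  have hηn : η * σ η = 1 := by rw [h.pow, ← pow_succ']; exact hη
  have hη1 : η ≠ 1 := fun e => hη2 (by rw [e, one_pow])
  set μ := t * η with hμdef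
  have hμn : μ * σ μ = -1 := by
    rw [hμdef, map_mul]; linear_combination (η * σ η) * htn - hηn
  have hne : 1 + t * σ μ ≠ 0 := by
    intro e
    rw [hμdef, map_mul] at e
    have : σ η = 1 := by linear_combination (σ η) * htn - e
    exact hη1 (σ.injective (by rw [this, map_one]))
  have hne' : 1 + μ * σ t ≠ 0 := fun e => hne (by
    have := congrArg σ e
    simpa [map_add, map_mul, h.invol, mul_comm] using this)
  set κ := (1 + μ * σ t)⁻¹ with hκ
  have hκ' : σ κ = (1 + t * σ μ)⁻¹ := by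
    rw [hκ, map_inv₀, map_add, map_one, map_mul, h.invol, mul_comm]
  let X : Fin m → Fin n := fun i => ⟨2 * i.val, by omega⟩
  let Y : Fin m → Fin n := fun i => ⟨2 * i.val + 1, by omega⟩
  let Z : Fin n := ⟨2 * m, by omega⟩
  have hXY : ∀ i j, X i ≠ Y j := fun i j e => by simp [X, Y, Fin.ext_iff] at e; omega
  have hXX : ∀ i j, X i = X j ↔ i = j := fun i j => by simp [X, Fin.ext_iff]
  have hYY : ∀ i j, Y i = Y j ↔ i = j := fun i j => by simp [Y, Fin.ext_iff]
  have hXZ : ∀ i, X i ≠ Z := fun i e => by simp [X, Z, Fin.ext_iff] at e; omega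
  have hYZ : ∀ i, Y i ≠ Z := fun i e => by simp [Y, Z, Fin.ext_iff] at e; omega
  have key : ∀ (i j : Fin m) (r s r' s' : F),
      uh σ (Pi.single (X i) r + Pi.single (Y i) s) (Pi.single (X j) r' + Pi.single (Y j) s') =
        if i = j then r * σ r' + s * σ s' else 0 := by
    intro i j r s r' s'
    rw [uh_add_left, uh_single_left, uh_single_left]
    simp only [Pi.add_apply, Pi.single_apply, hXY i j, (hXY j i).symm, hXX, hYY, if_false]
    split_ifs <;> simp
  have keyd : ∀ (i : Fin m) (r s : F),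
      uh σ (Pi.single (X i) r + Pi.single (Y i) s) (Pi.single Z 1) = 0 ∧
      uh σ (Pi.single Z (1 : F)) (Pi.single (X i) r + Pi.single (Y i) s) = 0 := by
    intro i r s
    constructor
    · simp [uh_add_left, uh_single_left, hXZ i, hYZ i]
    · simp [uh_single_left, (hXZ i).symm, (hYZ i).symm]
  refine ⟨{
    e := fun i => Pi.single (X i) 1 + Pi.single (Y i) t
    f := fun i => Pi.single (X i) κ + Pi.single (Y i) (κ * μ)
    d := Pi.single Z 1
    ee := fun i j => by rw [key]; split_ifs <;> simp [htn]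
    ff := fun i j => by
      rw [key]; split_ifs
      · rw [map_mul]; linear_combination (κ * σ κ) * hμn
      · rfl
    ef := fun i j => by
      rw [key]; split_ifs
      · rw [map_mul, one_mul, ← mul_assoc, mul_comm t, mul_assoc, ← mul_one_add, hκ',
          inv_mul_cancel₀ hne]
      · rfl
    fe := fun i j => by
      rw [key]; split_ifs
      · rw [map_one, mul_one, mul_assoc, ← mul_one_add, hκ, inv_mul_cancel₀ hne']
      · rfl
    ed := fun i => (keyd i _ _).1
    de := fun i => (keyd i _ _).2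
    fd := fun i => (keyd i _ _).1
    df := fun i => (keyd i _ _).2
    dd := by simp [uh_single_left]
    complete := fun x he hf hd => ?_ }⟩
  have hpair : ∀ i, x (X i) = 0 ∧ x (Y i) = 0 := by
    intro i
    have h1 := he i
    have h2 := hf i
    rw [uh_add_right, uh_single_right, uh_single_right] at h1 h2
    rw [map_one, mul_one] at h1
    rw [map_mul] at h2
    have hκ0 : σ κ ≠ 0 := by rw [hκ']; exact inv_ne_zero hne
    have h3 : x (X i) + x (Y i) * σ μ = 0 :=
      (mul_left_inj' hκ0).1 (by rw [zero_mul]; linear_combination h2)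
    have h4 : x (Y i) * (σ μ - σ t) = 0 := by linear_combination h3 - h1
    have hne2 : σ μ - σ t ≠ 0 := fun e => by
      have e' : μ = t := σ.injective (sub_eq_zero.1 e)
      exact hne (by rw [e', htn, add_neg_cancel])
    have h5 := (mul_eq_zero.1 h4).resolve_right hne2
    exact ⟨by linear_combination h1 - σ t * h5, h5⟩
  funext j
  rw [uh_single_right, map_one, mul_one] at hd
  rcases lt_or_ge j.val (2 * m) with hj | hj
  · rcases Nat.even_or_odd' j.val with ⟨i, hi | hi⟩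
    · rw [show j = X ⟨i, by omega⟩ from Fin.ext hi]; exact (hpair _).1
    · rw [show j = Y ⟨i, by omega⟩ from Fin.ext hi]; exact (hpair _).2
  · rw [show j = Z from Fin.ext (show j.val = 2 * m by omega)]; exact hd

variable (B : HFrame σ n m)

theorem HFrame.ext_coord {x y : Fin n → F} (he : ∀ i, uh σ x (B.e i) = uh σ y (B.e i))
    (hf : ∀ i, uh σ x (B.f i) = uh σ y (B.f i)) (hd : uh σ x B.d = uh σ y B.d) : x = y :=
  sub_eq_zero.1 (B.complete _ (fun i => by rw [uh_sub_left, he, sub_self])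
    (fun i => by rw [uh_sub_left, hf, sub_self]) (by rw [uh_sub_left, hd, sub_self]))

/-- The coordinates of a vector. -/
theorem HFrame.expand (x : Fin n → F) :
    x = ∑ i, (uh σ x (B.f i) • B.e i + uh σ x (B.e i) • B.f i) + uh σ x B.d • B.d := by
  refine B.ext_coord (fun j => ?_) (fun j => ?_) ?_ <;>
    simp [uh_add_left, uh_sum_left, uh_smul_left, B.ee, B.ff, B.ef, B.fe, B.ed, B.de, B.fd, B.df,
      B.dd]

/-- The element exchanging the two halves. -/
theorem exists_swap [Finite F] (h : UFrob σ q) :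
    ∃ (g : Cfsg.SU n F q) (δ : F), δ * δ = 1 ∧ σ δ = δ ∧ (∀ i, g.1.1 *ᵥ B.e i = B.f i) ∧
      (∀ i, g.1.1 *ᵥ B.f i = B.e i) ∧ g.1.1 *ᵥ B.d = δ • B.d := by
  classical
  let L : (Fin n → F) →ₗ[F] (Fin n → F) :=
    { toFun := fun x => ∑ i, (uh σ x (B.f i) • B.f i + uh σ x (B.e i) • B.e i) + uh σ x B.d • B.d
      map_add' := fun x y => by
        simp only [uh_add_left, add_smul, Finset.sum_add_distrib]; abel
      map_smul' := fun r x => by
        simp only [uh_smul_left, mul_smul, RingHom.id_apply, smul_add, Finset.smul_sum] }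
  have c1 : ∀ x j, uh σ (L x) (B.e j) = uh σ x (B.f j) := fun x j => by
    simp [L, uh_add_left, uh_sum_left, uh_smul_left, B.ee, B.fe, B.de]
  have c2 : ∀ x j, uh σ (L x) (B.f j) = uh σ x (B.e j) := fun x j => by
    simp [L, uh_add_left, uh_sum_left, uh_smul_left, B.ff, B.ef, B.df]
  have c3 : ∀ x, uh σ (L x) B.d = uh σ x B.d := fun x => by
    simp [L, uh_add_left, uh_sum_left, uh_smul_left, B.ed, B.fd, B.dd]
  have hLL : ∀ x, L (L x) = x := fun x =>
    B.ext_coord (fun j => by rw [c1, c2]) (fun j => by rw [c2, c1]) (by rw [c3, c3])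
  have hiso : ∀ x y, uh σ (L x) (L y) = uh σ x y := by
    intro x y
    have e1 : ∀ u v : Fin n → F, uh σ u v =
        ∑ i, (uh σ u (B.f i) * σ (uh σ v (B.e i)) + uh σ u (B.e i) * σ (uh σ v (B.f i))) +
          uh σ u B.d * σ (uh σ v B.d) := by
      intro u v
      conv_lhs => rw [B.expand u]
      simp only [uh_add_left, uh_sum_left, uh_smul_left, h.symm]
    rw [e1, e1 x y]
    simp only [c1, c2, c3]
    congr 1
    exact Finset.sum_congr rfl fun i _ => add_comm _ _
  set M := LinearMap.toMatrix' L with hM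
  have hMv : ∀ x, M *ᵥ x = L x := fun x => LinearMap.toMatrix'_mulVec L x
  set δ := M.det with hδ
  have hδ2 : δ * δ = 1 := by
    have : M * M = 1 := Matrix.ext_iff_mulVec.2 fun x => by
      rw [← mulVec_mulVec, hMv, hMv, hLL, one_mulVec]
    rw [hδ, ← det_mul, this, det_one]
  have hσδ : σ δ = δ := by
    have : (δ - 1) * (δ + 1) = 0 := by linear_combination hδ2
    rcases mul_eq_zero.1 this with e | e
    · rw [sub_eq_zero.1 e, map_one]
    · rw [eq_neg_of_add_eq_zero_left e, map_neg, map_one]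
  have hdet : (M * tMat σ B.d (δ - 1)).det = 1 := by
    rw [det_mul, det_tMat, B.dd, mul_one, add_sub_cancel, hδ2]
  have hgv : ∀ x, (M * tMat σ B.d (δ - 1)) *ᵥ x = L (x + ((δ - 1) * uh σ x B.d) • B.d) := fun x => by
    rw [← mulVec_mulVec, tMat_mulVec, hMv]
  refine ⟨⟨⟨_, hdet⟩, mem_SU_iff.2 fun x y => ?_⟩, δ, hδ2, hσδ, fun i => ?_, fun i => ?_, ?_⟩
  · show Cfsg.hermForm n F q ((M * tMat σ B.d (δ - 1)) *ᵥ x) ((M * tMat σ B.d (δ - 1)) *ᵥ y) = _
    simp only [h.hermForm_eq, hgv, hiso, uh_add_left, uh_add_right, uh_smul_left, uh_smul_right,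
      B.dd, map_mul, map_sub, map_one, hσδ, h.symm]
    linear_combination (uh σ x B.d * uh σ B.d y) * hδ2
  · show (M * tMat σ B.d (δ - 1)) *ᵥ B.e i = _
    rw [hgv, B.ed, mul_zero, zero_smul, add_zero]
    refine B.ext_coord (fun j => ?_) (fun j => ?_) ?_
    · rw [c1, B.ef, B.fe]
    · rw [c2, B.ee, B.ff]
    · rw [c3, B.ed, B.fd]
  · show (M * tMat σ B.d (δ - 1)) *ᵥ B.f i = _
    rw [hgv, B.fd, mul_zero, zero_smul, add_zero]
    refine B.ext_coord (fun j => ?_) (fun j => ?_) ?_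
    · rw [c1, B.ee, B.ff]
    · rw [c2, B.ef, B.fe]
    · rw [c3, B.ed, B.fd]
  · show (M * tMat σ B.d (δ - 1)) *ᵥ B.d = _
    rw [hgv, B.dd, mul_one]
    refine B.ext_coord (fun j => ?_) (fun j => ?_) ?_
    · simp [c1, uh_add_left, uh_smul_left, B.de, B.df]
    · simp [c2, uh_add_left, uh_smul_left, B.de, B.df]
    · simp [c3, uh_add_left, uh_smul_left, B.dd]

theorem exists_chain (h : UFrob σ q) : ∀ J : ℕ, J < m →
    ∃ P : Cfsg.SU n F q,
      (∀ i k : Fin m, k.val = i.val + 1 → k.val ≤ J → P.1.1 *ᵥ B.e k = B.e k + B.e i) ∧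
      (∀ k : Fin m, k.val = 0 ∨ J < k.val → P.1.1 *ᵥ B.e k = B.e k) ∧
      (∀ i k : Fin m, k.val = i.val + 1 → k.val ≤ J → P.1.1 *ᵥ (B.f i + B.f k) = B.f i) ∧
      (∀ k : Fin m, J ≤ k.val → P.1.1 *ᵥ B.f k = B.f k) ∧ P.1.1 *ᵥ B.d = B.d := by
  intro J
  induction J with
  | zero =>
    intro _
    exact ⟨1, fun i k hk hk0 => absurd hk0 (by omega), fun k _ => su_one_mulVec _,
      fun i k hk hk0 => absurd hk0 (by omega), fun k _ => su_one_mulVec _, su_one_mulVec _⟩
  | succ J ih =>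
    intro hJ
    obtain ⟨P, h1, h2, h3, h4, h5⟩ := ih (by omega)
    let p : Fin m := ⟨J, by omega⟩
    let r : Fin m := ⟨J + 1, hJ⟩
    have hpr : p ≠ r := fun e => by simp [p, r, Fin.ext_iff] at e
    let X := usg h (B.e p) (B.f r) (-1) 0 (B.ee p p) (by rw [B.fe, if_neg hpr.symm])
      (by simp [B.ff])
    have hX : ∀ x, X.1.1 *ᵥ x = x + (-uh σ x (B.e p)) • B.f r + uh σ x (B.f r) • B.e p := fun x => by
      rw [usg_mulVec]; simp
    have Xe : ∀ k, X.1.1 *ᵥ B.e k = B.e k + if k = r then B.e p else 0 := fun k => by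
      rw [hX, B.ee, B.ef]; split_ifs <;> simp
    have Xf : ∀ k, X.1.1 *ᵥ B.f k = B.f k - if k = p then B.f r else 0 := fun k => by
      rw [hX, B.fe, B.ff]; split_ifs <;> simp [sub_eq_add_neg]
    have hk_r : ∀ k : Fin m, k.val ≠ J + 1 → k ≠ r := fun k hk e => hk (by rw [e])
    have hk_p : ∀ k : Fin m, k.val ≠ J → k ≠ p := fun k hk e => hk (by rw [e])
    refine ⟨X * P, fun i k hk hkJ => ?_, fun k hk => ?_, fun i k hk hkJ => ?_, fun k hk => ?_, ?_⟩
    · rw [su_mul_mulVec]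
      by_cases hkr : k.val = J + 1
      · rw [h2 k (.inr (by omega)), Xe, if_pos (Fin.ext hkr)]
        rw [show i = p from Fin.ext (show i.val = J by omega)]
      · rw [h1 i k hk (by omega), mulVec_add, Xe, Xe, if_neg (hk_r k hkr),
          if_neg (hk_r i (by omega)), add_zero, add_zero]
    · rw [su_mul_mulVec, h2 k (by omega), Xe, if_neg (hk_r k (by omega)), add_zero]
    · rw [su_mul_mulVec]
      by_cases hkr : k.val = J + 1
      · rw [mulVec_add, h4 i (by omega), h4 k (by omega), mulVec_add, Xf, Xf,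
          if_pos (show i = p from Fin.ext (show i.val = J by omega)), if_neg (hk_p k (by omega)),
          show k = r from Fin.ext hkr]
        abel
      · rw [h3 i k hk (by omega), Xf, if_neg (hk_p i (by omega)), sub_zero]
    · rw [su_mul_mulVec, h4 k (by omega), Xf, if_neg (hk_p k (by omega)), sub_zero]
    · rw [su_mul_mulVec, h5, hX, B.de, B.df]; simp

/-- The regular unipotent element. -/
theorem exists_regular (h : UFrob σ q) (last : Fin m) (hlast : last.val + 1 = m) {a z : F}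
    (hz : z + σ z + a * σ a = 0) :
    ∃ u : Cfsg.SU n F q, (∀ i, i.val = 0 → u.1.1 *ᵥ B.e i = B.e i) ∧
      (∀ i k : Fin m, k.val = i.val + 1 → u.1.1 *ᵥ B.e k = B.e k + B.e i) ∧
      (∀ i k : Fin m, k.val = i.val + 1 → u.1.1 *ᵥ (B.f i + B.f k) = B.f i) ∧
      u.1.1 *ᵥ B.f last = B.f last + a • B.d + z • B.e last ∧
      u.1.1 *ᵥ B.d = B.d - σ a • B.e last := by
  obtain ⟨P, h1, h2, h3, h4, h5⟩ := exists_chain B h last.val last.2
  let R := usg h (B.e last) B.d a z (B.ee last last) (B.de last) (by rw [B.dd, mul_one, hz])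
  have hR : ∀ x, R.1.1 *ᵥ x =
      x + (a * uh σ x (B.e last)) • B.d + (z * uh σ x (B.e last) - σ a * uh σ x B.d) • B.e last :=
    fun x => usg_mulVec h _ _ x a z _ _ _
  have Re : ∀ k, R.1.1 *ᵥ B.e k = B.e k := fun k => by rw [hR, B.ee, B.ed]; simp
  refine ⟨R * P, fun i hi => ?_, fun i k hk => ?_, fun i k hk => ?_, ?_, ?_⟩
  · rw [su_mul_mulVec, h2 i (.inl hi), Re]
  · rw [su_mul_mulVec, h1 i k hk (by omega), mulVec_add, Re, Re]
  · have hne : i ≠ last := fun e => by rw [e] at hk; omega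
    rw [su_mul_mulVec, h3 i k hk (by omega), hR, B.fe, if_neg hne, B.fd]
    simp
  · rw [su_mul_mulVec, h4 last le_rfl, hR, B.fe, if_pos rfl, B.fd]
    simp
  · rw [su_mul_mulVec, h5, hR, B.de, B.dd]
    simp [sub_eq_add_neg]

theorem regular_nilpotent (hn : n = 2 * m + 1) (hm : 1 ≤ m) {u : Cfsg.SU n F q} (last : Fin m)
    (hlast : last.val + 1 = m) {a z : F} (ha : a ≠ 0)
    (hu0 : ∀ i, i.val = 0 → u.1.1 *ᵥ B.e i = B.e i)
    (hue : ∀ i k : Fin m, k.val = i.val + 1 → u.1.1 *ᵥ B.e k = B.e k + B.e i)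
    (huf : ∀ i k : Fin m, k.val = i.val + 1 → u.1.1 *ᵥ (B.f i + B.f k) = B.f i)
    (hul : u.1.1 *ᵥ B.f last = B.f last + a • B.d + z • B.e last)
    (hud : u.1.1 *ᵥ B.d = B.d - σ a • B.e last) :
    IsNilpotent (u.1.1 - 1) ∧ (u.1.1 - 1) ^ (n - 1) ≠ 0 := by
  set N := u.1.1 - 1 with hN
  have hsucc : ∀ k v, N ^ (k + 1) *ᵥ v = N ^ k *ᵥ (N *ᵥ v) := fun k v => by
    rw [pow_succ, mulVec_mulVec]
  have hsucc' : ∀ k v, N ^ (k + 1) *ᵥ v = N *ᵥ (N ^ k *ᵥ v) := fun k v => by
    rw [pow_succ', mulVec_mulVec]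
  have hNv : ∀ v, N *ᵥ v = u.1.1 *ᵥ v - v := fun v => by rw [hN, sub_mulVec, one_mulVec]
  let e0 := B.e ⟨0, hm⟩
  have he : ∀ j : ℕ, ∀ i : Fin m, i.val = j →
      N ^ j *ᵥ B.e i = e0 ∧ N ^ (j + 1) *ᵥ B.e i = 0 := by
    intro j
    induction j with
    | zero =>
      intro i hi
      rw [pow_zero, one_mulVec, zero_add, pow_one, hNv, hu0 i hi, sub_self]
      exact ⟨by rw [show i = ⟨0, hm⟩ from Fin.ext hi], rfl⟩
    | succ j ih =>
      intro i hi
      have h1 : N *ᵥ B.e i = B.e ⟨j, by omega⟩ := by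
        rw [hNv, hue ⟨j, by omega⟩ i hi, add_sub_cancel_left]
      rw [hsucc, hsucc (j + 1), h1]
      exact ih _ rfl
  have hb := he last.val last rfl
  have hd1 : N *ᵥ B.d = (-σ a) • B.e last := by rw [hNv, hud]; module
  have hd : N ^ m *ᵥ B.d = (-σ a) • e0 ∧ N ^ (m + 1) *ᵥ B.d = 0 := by
    constructor
    · rw [← congrArg (N ^ ·) hlast, hsucc, hd1, mulVec_smul, hb.1]
    · rw [← congrArg (fun j => N ^ (j + 1)) hlast, hsucc, hd1, mulVec_smul, hb.2, smul_zero]
  have hbm : N ^ m *ᵥ B.e last = 0 := by rw [← congrArg (N ^ ·) hlast]; exact hb.2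
  have hf : ∀ j : ℕ, ∀ i : Fin m, i.val + j + 1 = m →
      ∃ c : F, c ≠ 0 ∧ N ^ (m + 1 + j) *ᵥ B.f i = c • e0 ∧ N ^ (m + 1 + j + 1) *ᵥ B.f i = 0 := by
    intro j
    induction j with
    | zero =>
      intro i hi
      obtain rfl : i = last := Fin.ext (by omega)
      have h1 : N *ᵥ B.f i = a • B.d + z • B.e i := by rw [hNv, hul]; abel
      refine ⟨a * -σ a, mul_ne_zero ha (neg_ne_zero.2 ((map_ne_zero σ).2 ha)), ?_, ?_⟩
      · rw [add_zero, hsucc, h1, mulVec_add, mulVec_smul, mulVec_smul, hd.1, hbm, smul_zero,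
          add_zero, smul_smul]
      · rw [add_zero, hsucc, h1, mulVec_add, mulVec_smul, mulVec_smul, hd.2, hsucc' m, hbm,
          mulVec_zero, smul_zero, smul_zero, add_zero]
    | succ j ih =>
      intro i hi
      let k : Fin m := ⟨i.val + 1, by omega⟩
      obtain ⟨c, hc, h1, h2⟩ := ih k (by simp [k]; omega)
      have h3 : N *ᵥ B.f i = -B.f k - N *ᵥ B.f k := by
        have := huf i k rfl
        rw [mulVec_add] at this
        rw [hNv, hNv, eq_sub_of_add_eq this]
        abel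
      have h4 : N ^ (m + 1 + j + 1 + 1) *ᵥ B.f k = 0 := by rw [hsucc', h2, mulVec_zero]
      refine ⟨-c, neg_ne_zero.2 hc, ?_, ?_⟩
      · rw [← add_assoc, hsucc, h3, mulVec_sub, mulVec_neg, h1, ← hsucc, h2, sub_zero, neg_smul]
      · rw [← add_assoc, hsucc, h3, mulVec_sub, mulVec_neg, h2, ← hsucc, h4, sub_zero, neg_zero]
  have mono : ∀ {i j : ℕ} {v}, i ≤ j → N ^ i *ᵥ v = 0 → N ^ j *ᵥ v = 0 := by
    intro i j v hij h
    obtain ⟨r, rfl⟩ := Nat.exists_eq_add_of_le hij
    rw [add_comm, pow_add, ← mulVec_mulVec, h, mulVec_zero]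
  constructor
  · refine ⟨2 * m + 1, Matrix.ext_iff_mulVec.2 fun x => ?_⟩
    rw [zero_mulVec, B.expand x, mulVec_add, mulVec_sum, mulVec_smul, mono (by omega) hd.2,
      smul_zero, add_zero]
    refine Finset.sum_eq_zero fun i _ => ?_
    obtain ⟨c, -, -, hc⟩ := hf (m - 1 - i.val) i (by omega)
    rw [mulVec_add, mulVec_smul, mulVec_smul, mono (by omega) (he _ i rfl).2, mono (by omega) hc]
    simp
  · intro h
    obtain ⟨c, hc, h1, -⟩ := hf (m - 1) ⟨0, hm⟩ (by simp; omega)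
    rw [show m + 1 + (m - 1) = n - 1 by omega, h, zero_mulVec] at h1
    exact hc ((smul_eq_zero.1 h1.symm).resolve_right (B.e_ne_zero _))

/-- A conjugate of the regular element differing from it by a transvection. -/
theorem exists_transvection_conj (h : UFrob σ q) {u : Cfsg.SU n F q} {i k : Fin m} (hik : i ≠ k)
    (hui : u.1.1 *ᵥ B.e i = B.e i) (huk : u.1.1 *ᵥ B.e k = B.e k + B.e i) {c : F}
    (hc : σ c = -c) :
    ∃ g : Cfsg.SU n F q, ∀ x, (u⁻¹ * (g * u * g⁻¹)).1.1 *ᵥ x =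
      x + (c * uh σ x (B.e i)) • B.e i := by
  obtain ⟨θ, hθ⟩ := exists_trace h
  set α := -(c * σ θ) with hα
  have hασ : σ α = c * θ := by rw [hα, map_neg, map_mul, h.invol, hc]; ring
  let g := usg h (B.e i) (B.e k) α 0 (B.ee i i) (B.ee k i) (by simp [B.ee])
  have hg : ∀ x, g.1.1 *ᵥ x = x + (α * uh σ x (B.e i)) • B.e k + (-(σ α * uh σ x (B.e k))) • B.e i :=
    fun x => by rw [usg_mulVec]; simp
  have hiu : (u⁻¹).1.1 *ᵥ B.e i = B.e i := by
    conv_lhs => rw [← hui]
    rw [su_inv_mulVec]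
  have hiku : (u⁻¹).1.1 *ᵥ B.e k = B.e k - B.e i := by
    have : u.1.1 *ᵥ (B.e k - B.e i) = B.e k := by rw [mulVec_sub, huk, hui, add_sub_cancel_right]
    conv_lhs => rw [← this]
    rw [su_inv_mulVec]
  refine ⟨g, fun x => ?_⟩
  rw [show u⁻¹ * (g * u * g⁻¹) = (u⁻¹ * g * u) * g⁻¹ by group, su_mul_mulVec]
  set y := (g⁻¹).1.1 *ᵥ x with hy
  have hx : g.1.1 *ᵥ y = x := su_mulVec_inv g x
  have hu1 : uh σ (u.1.1 *ᵥ y) (B.e i) = uh σ y (B.e i) := by
    conv_lhs => rw [← hui]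
    rw [su_uh h]
  have hu2 : uh σ (u.1.1 *ᵥ y) (B.e k) = uh σ y (B.e k) - uh σ y (B.e i) := by
    conv_lhs => rw [← su_mulVec_inv u (B.e k), hiku]
    rw [su_uh h, uh_sub_right]
  rw [su_mul_mulVec, su_mul_mulVec, hg, mulVec_add, mulVec_add, mulVec_smul, mulVec_smul,
    su_inv_mulVec, hiu, hiku, hu1, hu2, ← hx, hg]
  simp only [uh_add_left, uh_smul_left, B.ee, mul_zero, add_zero]
  rw [hασ, hα]
  match_scalars
  · ring
  · ring
  · linear_combination (c * uh σ y (B.e i)) * hθ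

end CfsgLib.KnownA.SuGen
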