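import Cfsg.Agent.Lib.KnownA.SuGen.Basic

/-!
A whole transvection group from transvections of one coefficient on two hyperbolic pairs.
-/

set_option autoImplicit false

namespace CfsgLib.KnownA.SuGen

open Matrix CfsgLib.Classical CfsgLib.Classical.Unitary

variable {F : Type*} [Field F] {σ : F →+* F} {q n : ℕ} {H : Subgroup (Cfsg.SU n F q)}

/-- The element exchanging `b` and `f`. -/
theorem exists_rot (h : UFrob σ q) {a b f : Fin n → F} {c : F} (hc : σ c = -c) (hc0 : c ≠ 0)
    (hab : uh σ a b = 0) (haf : uh σ a f = 0) (hbb : uh σ b b = 0) (hff : uh σ f f = 0)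
    (hfb : uh σ f b = c⁻¹) (hb : TIn σ H b c) (hf : TIn σ H f c) :
    ∃ r ∈ H, r.1.1 *ᵥ a = a ∧ r.1.1 *ᵥ b = -f ∧ r.1.1 *ᵥ f = b := by
  obtain ⟨t, ht, hte⟩ := hb
  obtain ⟨t', ht', hte'⟩ := hf
  have hbf : uh σ b f = -c⁻¹ := by rw [← h.symm f b, hfb, map_inv₀, hc, inv_neg]
  refine ⟨t * t' * t, mul_mem (mul_mem ht ht') ht, ?_, ?_, ?_⟩
  · simp only [su_mul_mulVec, hte, hte', hab, haf, mul_zero, zero_smul, add_zero]
  · simp only [su_mul_mulVec, hte, hte', uh_add_left, uh_smul_left, hbb, hff, hbf, hfb]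
    match_scalars <;> field_simp <;> ring
  · simp only [su_mul_mulVec, hte, hte', uh_add_left, uh_smul_left, hbb, hff, hbf, hfb]
    match_scalars <;> field_simp <;> ring

set_option maxHeartbeats 1000000 in
/-- The field lemma. -/
theorem pairField (h : UFrob σ q) {a b f v : Fin n → F} {c : F} (hc : σ c = -c) (hc0 : c ≠ 0)
    (haa : uh σ a a = 0) (hab : uh σ a b = 0) (haf : uh σ a f = 0) (hbb : uh σ b b = 0)
    (hff : uh σ f f = 0) (hfb : uh σ f b = c⁻¹) (hvv : uh σ v v = 0) (hva : uh σ v a = 0)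
    (ha : TIn σ H a c) (hb : TIn σ H b c) (hf : TIn σ H f c) (habT : TIn σ H (a + b) c)
    (hvT : TIn σ H v c) (htrans : ∀ l, TIn σ H a (c * l) → TIn σ H f (c * l))
    {k K : F} (hk : k = c * uh σ v b) (hk1 : k * σ k = 1) (hK : K = c * uh σ v f)
    (hne : σ k * K ≠ σ (σ k * K))
    (hgen : ∀ R : Subring F, σ k * K + σ (σ k * K) ∈ R →
      (K * σ K) * (σ k * K + σ (σ k * K)) ∈ R → 2 * (K * σ K) ∈ R → ∀ x, σ x = x → x ∈ R) :
    (∀ ζ : F, ζ + σ ζ = 0 → TIn σ H a ζ) ∧
      (∀ m : F, ∃ ζ, EIn σ H a (m • b) ζ) ∧ (∀ m : F, ∃ ζ, EIn σ H a (m • f) ζ) := by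
  have hbf : uh σ b f = -c⁻¹ := by rw [← h.symm f b, hfb, map_inv₀, hc, inv_neg]
  have hba : uh σ b a = 0 := h.swap_zero hab
  have hfa : uh σ f a = 0 := h.swap_zero haf
  have hav : uh σ a v = 0 := h.swap_zero hva
  obtain ⟨r, hr, hra, hrb, hrf⟩ := exists_rot h hc hc0 hab haf hbb hff hfb hb hf
  have hX1 : EIn σ H a (c • b) c := by
    have := EIn.of_pair h (v := b) (a := a) 1 hc hbb hba (by rwa [one_smul, add_comm]) hb
    simpa using this
  let M : F → Prop := fun m => ∃ ζ, EIn σ H a ((c * m) • b) ζ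
  let G : (Fin n → F) → Prop := fun x => ∃ ζ, EIn σ H a (c • x) ζ
  have hM1 : M 1 := ⟨c, by rwa [mul_one]⟩
  have hMadd : ∀ {m m'}, M m → M m' → M (m + m') := by
    rintro m m' ⟨ζ, hm⟩ ⟨ζ', hm'⟩
    exact ⟨_, (hm.mul haa (by rw [uh_smul_right, hab, mul_zero])
      (by rw [uh_smul_left, hba, mul_zero]) hm').congr (by rw [mul_add, add_smul]) rfl⟩
  have hMneg : ∀ {m}, M m → M (-m) := by
    rintro m ⟨ζ, hm⟩
    exact ⟨_, (hm.inv haa (by rw [uh_smul_right, hab, mul_zero])
      (by rw [uh_smul_left, hba, mul_zero])).congr (by rw [mul_neg, neg_smul]) rfl⟩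
  have back : ∀ {m ζ}, EIn σ H a ((c * m) • f) ζ → EIn σ H a ((c * m) • b) ζ := fun {m ζ} hm =>
    hm.move h hr hra (by rw [mulVec_smul, hrf])
  have hb2f : ∀ {m ζ}, EIn σ H a ((c * m) • b) ζ → EIn σ H a ((c * -m) • f) ζ := fun {m ζ} hm =>
    (hm.move h hr hra (by rw [mulVec_smul, hrb])).congr (by rw [smul_neg, mul_neg, neg_smul]) rfl
  -- multiplying by long coefficients
  have hconj : ∀ {m ζ l}, EIn σ H a ((c * m) • b) ζ → TIn σ H a (c * l) →
      EIn σ H a ((c * (m * l)) • b) (-c * (m * σ m) * σ l) := by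
    intro m ζ l hm hl
    obtain ⟨t, ht, hte⟩ := htrans l hl
    have h1 : EIn σ H a ((c * m) • (b - l • f)) ζ := hm.move h ht
      (by rw [hte, haf, mul_zero, zero_smul, add_zero])
      (by
        rw [mulVec_smul, hte, hbf]
        match_scalars <;> field_simp)
    have h2 := h1.mul haa (by simp [uh_smul_right, uh_sub_right, hab, haf])
      (by rw [← neg_smul, uh_smul_left, hba, mul_zero])
      (hm.inv haa (by rw [uh_smul_right, hab, mul_zero]) (by rw [uh_smul_left, hba, mul_zero]))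
    have h3 : EIn σ H a ((c * -(m * l)) • f) (-c * (m * σ m) * σ l) := h2.congr (by module) (by
      simp only [← neg_smul, uh_smul_left, uh_smul_right, uh_sub_right, hbb, hbf, map_mul, hc]
      field_simp
      ring)
    have h4 := back h3
    have h5 := h4.inv haa (by rw [uh_smul_right, hab, mul_zero])
      (by rw [uh_smul_left, hba, mul_zero])
    have h6 := back (h4.move h hr hra (by rw [mulVec_smul, hrb]) |>.congr
      (show (c * -(m * l)) • -f = (c * (m * l)) • f by module) rfl)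
    exact h6
  have hMl : ∀ {m l}, M m → TIn σ H a (c * l) → M (m * l) :=
    fun ⟨_, hm⟩ hl => ⟨_, hconj hm hl⟩
  have hT1 : TIn σ H a (c * 1) := by rwa [mul_one]
  have hΦ : ∀ {m}, M m → EIn σ H a ((c * m) • b) (-c * (m * σ m)) := fun {m} ⟨_, hm⟩ =>
    (hconj hm hT1).congr (by rw [mul_one]) (by rw [map_one, mul_one])
  -- traces
  have htr : ∀ {m₁ m₂}, M m₁ → M m₂ → TIn σ H a (c * (m₁ * σ m₂ + σ (m₁ * σ m₂))) := by
    intro m₁ m₂ h1 h2
    have e1 := (hΦ h1).mul haa (by rw [uh_smul_right, hab, mul_zero])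
      (by rw [uh_smul_left, hba, mul_zero]) (hΦ h2)
    have e2 := (hΦ (hMadd h1 h2)).inv haa (by rw [uh_smul_right, hab, mul_zero])
      (by rw [uh_smul_left, hba, mul_zero])
    have e3 := e1.mul haa (by simp [uh_smul_right, uh_add_right, hab])
      (by rw [← neg_smul, uh_smul_left, hba, mul_zero]) e2
    refine (e3.congr (w' := 0) (by module) ?_).toT
    simp only [← neg_smul, uh_smul_left, uh_smul_right, uh_add_left, uh_add_right, hbb, mul_zero,
      add_zero, sub_zero, map_add, map_mul, h.invol]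
    ring
  -- the short parameter
  have hshort : ∀ {v' : Fin n → F}, uh σ v' v' = 0 → uh σ v' a = 0 → TIn σ H v' c →
      G (σ (c * uh σ v' b) • v') := by
    intro v' hvv' hva' hv'
    refine ⟨_, (EIn.of_pair h (c * uh σ v' b) hc hvv' hva' ?_ hv').congr (by module) rfl⟩
    obtain ⟨g, hg, hge⟩ := hX1
    refine hv'.move h hg ?_
    rw [hge, hva', uh_smul_right, hc]
    module
  obtain ⟨t, ht, hte⟩ := hf
  have hta : t.1.1 *ᵥ a = a := by rw [hte, haf, mul_zero, zero_smul, add_zero]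
  have htv : t.1.1 *ᵥ v = v + K • f := by rw [hte, hK]
  have hGdiff : ∀ {x y : Fin n → F}, uh σ x a = 0 → uh σ y a = 0 → G x → G y → G (x - y) := by
    rintro x y hx hy ⟨ζ, hx'⟩ ⟨ζ', hy'⟩
    exact ⟨_, (hx'.mul haa (by rw [uh_smul_right, h.swap_zero hx, mul_zero])
      (by rw [← neg_smul, uh_smul_left, hy, mul_zero])
      (hy'.inv haa (by rw [uh_smul_right, h.swap_zero hy, mul_zero])
        (by rw [uh_smul_left, hy, mul_zero]))).congr (by module) rfl⟩
  have hGf : ∀ {m}, G (m • f) → M m := fun {m} ⟨ζ, hm⟩ =>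
    ⟨ζ, back (hm.congr (by rw [smul_smul]) rfl)⟩
  have g0 : G (σ k • v) := hk ▸ hshort hvv hva hvT
  have g1 : G (σ k • (v + K • f)) := by
    obtain ⟨ζ, hz⟩ := g0
    exact ⟨ζ, hz.move h ht hta (by rw [mulVec_smul, mulVec_smul, htv])⟩
  have g2 : G (σ (k + K) • (v + K • f)) := by
    have e : c * uh σ (v + K • f) b = k + K := by
      rw [uh_add_left, uh_smul_left, hfb, hk]
      field_simp
    rw [← e]
    refine hshort ?_ ?_ (hvT.move h ht htv)
    · rw [← htv, su_uh h, hvv]
    · rw [uh_add_left, uh_smul_left, hva, hfa, mul_zero, add_zero]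
  have g3 : G (σ K • v) := by
    have hv1 : uh σ (v + K • f) a = 0 := by
      rw [uh_add_left, uh_smul_left, hva, hfa, mul_zero, add_zero]
    have := hGdiff (by rw [uh_smul_left, hv1, mul_zero]) (by rw [uh_smul_left, hv1, mul_zero]) g2 g1
    obtain ⟨ζ, hz⟩ := this
    refine ⟨ζ, hz.move h (inv_mem ht) ?_ ?_⟩
    · conv_lhs => rw [← hta]
      rw [su_inv_mulVec]
    · rw [mulVec_smul, show σ (k + K) • (v + K • f) - σ k • (v + K • f) = σ K • (v + K • f) by
        rw [map_add]; module, mulVec_smul, ← htv, su_inv_mulVec]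
  have hτ : M (σ k * K) := hGf (by
    have := hGdiff (by rw [uh_smul_left, uh_add_left, uh_smul_left, hva, hfa, mul_zero, add_zero,
      mul_zero]) (by rw [uh_smul_left, hva, mul_zero]) g1 g0
    convert this using 1
    module)
  have hN : M (σ K * K) := hGf (by
    obtain ⟨ζ, hz⟩ := g3
    have g4 : G (σ K • (v + K • f)) := ⟨ζ, hz.move h ht hta (by rw [mulVec_smul, mulVec_smul, htv])⟩
    have := hGdiff (by rw [uh_smul_left, uh_add_left, uh_smul_left, hva, hfa, mul_zero, add_zero,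
      mul_zero]) (by rw [uh_smul_left, hva, mul_zero]) g4 ⟨ζ, hz⟩
    convert this using 1
    module)
  -- the rings
  let R : Subring F :=
    { carrier := {y | ∀ m, M m → M (y * m)}
      mul_mem' := fun {p q} hp hq m hm => by rw [mul_assoc]; exact hp _ (hq m hm)
      one_mem' := fun m hm => by rw [one_mul]; exact hm
      add_mem' := fun {p q} hp hq m hm => by rw [add_mul]; exact hMadd (hp m hm) (hq m hm)
      zero_mem' := fun m hm => by
        rw [zero_mul, ← add_neg_cancel m]; exact hMadd hm (hMneg hm)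
      neg_mem' := fun {p} hp m hm => by rw [neg_mul]; exact hMneg (hp m hm) }
  have hLR : ∀ {l}, TIn σ H a (c * l) → l ∈ R := fun {l} hl m hm => by
    rw [mul_comm]; exact hMl hm hl
  have hreal : ∀ x, σ x = x → x ∈ R := by
    refine hgen R (hLR ?_) (hLR ?_) (hLR ?_)
    · simpa using htr hτ hM1
    · have := htr hτ hN
      convert this using 3
      simp only [map_mul, h.invol]
      ring
    · have := htr hN hM1
      convert this using 3
      simp only [map_mul, map_one, h.invol]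
      ring
  have hall : ∀ m, M m := by
    intro x
    set τ := σ k * K
    have hd : τ - σ τ ≠ 0 := sub_ne_zero.2 hne
    set β := (x - σ x) / (τ - σ τ) with hβdef
    have hβ : σ β = β := by
      rw [hβdef, map_div₀, map_sub, map_sub, h.invol, h.invol, ← neg_sub, ← neg_sub τ,
        neg_div_neg_eq]
    have hβτ : β * (τ - σ τ) = x - σ x := by rw [hβdef, div_mul_cancel₀ _ hd]
    have hα : σ (x - β * τ) = x - β * τ := by
      rw [map_sub, map_mul, hβ]; linear_combination hβτ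
    have := hMadd (hreal _ hα 1 hM1) (hreal _ hβ τ hτ)
    simpa using this
  refine ⟨fun ζ hζ => ?_, fun m => ?_, fun m => ?_⟩
  · obtain ⟨θ, hθ⟩ := exists_trace h
    have h1 := htr (hall (θ * (ζ / c))) hM1
    convert h1 using 1
    have e : σ (ζ / c) = ζ / c := by
      rw [map_div₀, hc, show σ ζ = -ζ by linear_combination hζ, neg_div_neg_eq]
    simp only [map_one, mul_one, map_mul, e]
    field_simp
    linear_combination (-ζ) * hθ
  · obtain ⟨ζ, hz⟩ := hall (c⁻¹ * m)
    exact ⟨ζ, hz.congr (by rw [← mul_assoc, mul_inv_cancel₀ hc0, one_mul]) rfl⟩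
  · obtain ⟨ζ, hz⟩ := hall (-(c⁻¹ * m))
    exact ⟨ζ, (hb2f hz).congr (by rw [neg_neg, ← mul_assoc, mul_inv_cancel₀ hc0, one_mul]) rfl⟩

end CfsgLib.KnownA.SuGen
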