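import Cfsg.Agent.Lib.KnownA.SuGen.Main

/-!
Choice of the parameters for the special unitary group.
-/

set_option autoImplicit false

namespace CfsgLib.KnownA.SuGen

open Matrix CfsgLib.Classical CfsgLib.Classical.Unitary

/-- A large set in a finite field of odd order contains a generator. -/
theorem exists_gen_mem {K : Type*} [Field K] [Fintype K] [DecidableEq K] {p k : ℕ}
    (hp : p.Prime) (hp3 : 3 ≤ p) (hk : 2 ≤ k) (hK : Fintype.card K = p ^ k) (T : Finset K)
    (hT : Fintype.card K - 1 ≤ 2 * T.card) :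
    ∃ γ ∈ T, Subring.closure ({γ} : Set K) = ⊤ := by
  by_contra hcon
  push Not at hcon
  let S : ℕ → Finset K := fun d => Finset.univ.filter fun x => x ^ (p ^ d) = x
  have hS : ∀ d, 1 ≤ d → (S d).card ≤ p ^ d := by
    intro d hd
    have hne : (Polynomial.X ^ (p ^ d) - Polynomial.X : Polynomial K) ≠ 0 :=
      FiniteField.X_pow_card_pow_sub_X_ne_zero K (by omega) (by omega : 1 < p)
    have hdeg : (Polynomial.X ^ (p ^ d) - Polynomial.X : Polynomial K).natDegree = p ^ d :=
      FiniteField.X_pow_card_pow_sub_X_natDegree_eq K (by omega) (by omega : 1 < p)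
    rw [← hdeg]
    refine Polynomial.card_le_degree_of_subset_roots ?_
    intro x hx
    rw [Polynomial.mem_roots hne]
    have : x ^ (p ^ d) = x := (Finset.mem_filter.1 hx).2
    simp [this]
  have hsub : T ⊆ (Finset.Icc 1 (k / 2)).biUnion S := by
    intro x hx
    set R := Subring.closure ({x} : Set K)
    have h2 := SpGen.not_mem_sq_le (hcon x hx)
    have hdvd : Nat.card R ∣ Nat.card K := AddSubgroup.card_addSubgroup_dvd_card R.toAddSubgroup
    rw [Nat.card_eq_fintype_card (α := K), hK] at hdvd h2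
    obtain ⟨d, -, hd⟩ := (Nat.dvd_prime_pow hp).1 hdvd
    have h1 : 1 < Nat.card R := Finite.one_lt_card
    refine Finset.mem_biUnion.2 ⟨d, Finset.mem_Icc.2 ⟨?_, ?_⟩, Finset.mem_filter.2
      ⟨Finset.mem_univ _, ?_⟩⟩
    · by_contra h
      rw [show d = 0 by omega] at hd; simp at hd; omega
    · rw [hd, ← pow_mul] at h2
      have := (Nat.pow_le_pow_iff_right (by omega : 1 < p)).1 h2
      omega
    · letI := Fintype.ofFinite R
      letI := Fintype.fieldOfDomain R
      have := FiniteField.pow_card (⟨x, Subring.subset_closure rfl⟩ : R)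
      rw [← Nat.card_eq_fintype_card, hd] at this
      exact congrArg Subtype.val this
  have hup := ((Finset.card_le_card hsub).trans Finset.card_biUnion_le).trans
    (Finset.sum_le_sum fun d hd => hS d (Finset.mem_Icc.1 hd).1)
  have hgeom : ∀ j, 2 * (∑ d ∈ Finset.Icc 1 j, p ^ d) + p ≤ p ^ (j + 1) := by
    intro j
    induction j with
    | zero => simp
    | succ j ih =>
      rw [Finset.sum_Icc_succ_top (by omega), pow_succ p (j + 1)]
      calc 2 * (∑ d ∈ Finset.Icc 1 j, p ^ d + p ^ (j + 1)) + p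
          = (2 * (∑ d ∈ Finset.Icc 1 j, p ^ d) + p) + 2 * p ^ (j + 1) := by ring
        _ ≤ 3 * p ^ (j + 1) := by omega
        _ ≤ p ^ (j + 1) * p := by rw [mul_comm]; exact Nat.mul_le_mul_left _ hp3
  have h7 := hgeom (k / 2)
  have h8 : p ^ (k / 2 + 1) ≤ p ^ k := Nat.pow_le_pow_right (by omega) (by omega)
  omega

variable {F : Type*} [Field F] {σ : F →+* F} {q n m : ℕ}

/-- The parameters. -/
theorem exists_params [Finite F] (hF : Nat.card F = q ^ 2) (h : UFrob σ q) {δ : F}
    (hδ : δ * δ = 1) (hσδ : σ δ = δ) :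
    ∃ ω κ : F, ω * σ ω = 1 ∧ ω ≠ σ ω ∧ σ κ = κ ∧ κ ≠ 0 ∧ ∀ R : Subring F,
      -((ω + σ ω) * (ω - σ ω) ^ 2) * (κ * (κ + 2 * δ)) ∈ R → ∀ x, σ x = x → x ∈ R := by
  classical
  let K := σ.eqLocusField (RingHom.id F)
  have hK : Nat.card K = q := fixed_card_eq hF h.pow
  have : Fintype K := Fintype.ofFinite K
  rw [Nat.card_eq_fintype_card] at hK
  obtain ⟨p, hp⟩ := CharP.exists K
  have : Fact p.Prime := ⟨CharP.char_is_prime K p⟩
  obtain ⟨k, hpp, hk⟩ := FiniteField.card K p
  have toR : ∀ (R : Subring F) (γ : K), Subring.closure ({γ} : Set K) = ⊤ → (γ : F) ∈ R →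
      ∀ x, σ x = x → x ∈ R := by
    intro R γ hγ hγR x hx
    have : (⊤ : Subring K) ≤ R.comap K.subtype := by
      rw [← hγ, Subring.closure_le, Set.singleton_subset_iff]
      exact hγR
    exact this (Subring.mem_top (⟨x, hx⟩ : K))
  rcases Nat.lt_or_ge (k : ℕ) 2 with hk1 | hk2
  · -- prime fields
    obtain ⟨ω, hω, hω2⟩ := exists_normOne_sq_ne_one hF
    have hωn : ω * σ ω = 1 := by rw [h.pow, ← pow_succ']; exact hω
    refine ⟨ω, 1, hωn, fun e => hω2 (by rw [sq]; nth_rw 2 [e]; exact hωn), map_one σ, one_ne_zero,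
      fun R _ x hx => toR R 1 ?_ R.one_mem x hx⟩
    have hk' : Nat.card K = p := by
      rw [Nat.card_eq_fintype_card, hk, show (k : ℕ) = 1 by have := k.pos; omega, pow_one]
    by_contra hne
    have h2 := SpGen.not_mem_sq_le hne
    rw [hk'] at h2
    have hd : Nat.card (Subring.closure ({(1 : K)} : Set K)) ∣ Nat.card K :=
      AddSubgroup.card_addSubgroup_dvd_card (Subring.closure ({(1 : K)} : Set K)).toAddSubgroup
    rw [hk'] at hd
    have h1 : 1 < Nat.card (Subring.closure ({(1 : K)} : Set K)) := Finite.one_lt_card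
    rcases (Nat.dvd_prime Fact.out).1 hd with e | e
    · omega
    · rw [e] at h2 h1; nlinarith
  have hq4 : 4 ≤ q := by
    rw [← hK, hk]
    calc 4 = 2 ^ 2 := rfl
      _ ≤ p ^ 2 := Nat.pow_le_pow_left (Fact.out : p.Prime).two_le 2
      _ ≤ p ^ (k : ℕ) := Nat.pow_le_pow_right (Fact.out : p.Prime).pos hk2
  obtain ⟨⟨u, hu⟩, hgen⟩ := IsCyclic.exists_generator (α := normOne F q)
  have hord : orderOf u = q + 1 := by
    rw [← card_normOne hF, ← orderOf_eq_card_of_forall_mem_zpowers hgen, Subgroup.orderOf_mk]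
  set ω : F := (u : F)
  have hωn : ω * σ ω = 1 := by
    rw [h.pow, ← pow_succ']
    exact congrArg Units.val (MonoidHom.mem_ker.1 hu)
  have hω4 : ω ^ 4 ≠ 1 := fun e => by
    have := Nat.le_of_dvd (by omega) (orderOf_dvd_of_pow_eq_one
      (show u ^ 4 = 1 from Units.ext (by simpa [ω] using e)))
    omega
  have hne : ω ≠ σ ω := fun e => hω4 (by
    have h2 : ω * ω = 1 := by nth_rw 2 [e]; exact hωn
    linear_combination (ω * ω + 1) * h2)
  have hs : ω + σ ω ≠ 0 := fun e => hω4 (by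
    have h2 : ω * ω = -1 := by linear_combination ω * e - hωn
    linear_combination (ω * ω - 1) * h2)
  set Q := -((ω + σ ω) * (ω - σ ω) ^ 2) with hQ
  have hQ0 : Q ≠ 0 := neg_ne_zero.2 (mul_ne_zero hs (pow_ne_zero _ (sub_ne_zero.2 hne)))
  have hσQ : σ Q = Q := by
    rw [hQ, map_neg, map_mul, map_pow, map_add, map_sub, h.invol]; ring
  let QK : K := ⟨Q, hσQ⟩
  let δK : K := ⟨δ, hσδ⟩
  have hQK : QK ≠ 0 := fun e => hQ0 (congrArg Subtype.val e)
  rcases eq_or_ne p 2 with rfl | hp2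
  · obtain ⟨g, hg⟩ : ∃ g : Kˣ, ∀ x, x ∈ Submonoid.powers g := IsCyclic.exists_monoid_generator
    obtain ⟨r, hr⟩ := (Finite.injective_iff_surjective.1 (frobenius_inj K 2)) ((g : K) / QK)
    have hr2 : r ^ 2 = (g : K) / QK := hr
    have h2 : (2 : K) = 0 := CharTwo.two_eq_zero
    refine ⟨ω, (r : F), hωn, hne, r.2, ?_, fun R hR => toR R g (SpGen.closure_gen_eq_top hg) ?_⟩
    · intro e
      have : r = 0 := Subtype.ext e
      rw [this, zero_pow two_ne_zero] at hr2
      exact div_ne_zero g.ne_zero hQK hr2.symm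
    · have : QK * (r * (r + 2 * δK)) = (g : K) := by
        rw [h2, zero_mul, add_zero, ← sq, hr2, mul_div_cancel₀ _ hQK]
      rw [← this]
      exact hR
  have hp3 : 3 ≤ p := by have := (Fact.out : p.Prime).two_le; omega
  let T := (Finset.univ.erase (0 : K)).image fun κ => QK * (κ * (κ + 2 * δK))
  have hT : Fintype.card K - 1 ≤ 2 * T.card := by
    rw [← Finset.card_univ, ← Finset.card_erase_of_mem (Finset.mem_univ (0 : K))]
    refine Finset.card_le_mul_card_image _ 2 fun b hb => ?_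
    obtain ⟨a, -, rfl⟩ := Finset.mem_image.1 hb
    refine (Finset.card_le_card (t := ({a, -a - 2 * δK} : Finset K)) ?_).trans Finset.card_le_two
    intro x hx
    have e := mul_left_cancel₀ hQK (Finset.mem_filter.1 hx).2
    have : (x - a) * (x - (-a - 2 * δK)) = 0 := by linear_combination e
    rcases mul_eq_zero.1 this with e | e <;> simp [sub_eq_zero.1 e]
  obtain ⟨γ, hγT, hγ⟩ := exists_gen_mem Fact.out hp3 hk2 hk T hT
  obtain ⟨κ, hκ, rfl⟩ := Finset.mem_image.1 hγT
  exact ⟨ω, (κ : F), hωn, hne, κ.2, fun e => (Finset.mem_erase.1 hκ).1 (Subtype.ext e),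
    fun R hR => toR R _ hγ hR⟩

/-- The group is generated by three conjugates of a regular unipotent element. -/
theorem threeSu [Finite F] (hF : Nat.card F = q ^ 2) (hm : 2 ≤ m) (hn : n = 2 * m + 1) :
    ∃ u g h : ↥(Cfsg.SU n F q),
      (IsNilpotent (((u : Matrix.SpecialLinearGroup (Fin n) F) : Matrix (Fin n) (Fin n) F) - 1) ∧
        (((u : Matrix.SpecialLinearGroup (Fin n) F) : Matrix (Fin n) (Fin n) F) - 1) ^ (n - 1) ≠ 0) ∧
      Subgroup.closure ({u, g * u * g⁻¹, h * u * h⁻¹} : Set ↥(Cfsg.SU n F q)) = ⊤ := by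
  obtain ⟨σ, h⟩ := exists_uFrob hF
  obtain ⟨B⟩ := exists_frame (σ := σ) hF h hn
  obtain ⟨g, δ, hδ, hσδ, hge, hgf, hgd⟩ := exists_swap B h
  obtain ⟨ω, κ, hω, hne, hκ, hκ0, hgen⟩ := exists_params hF h hδ hσδ
  have hd : ω - σ ω ≠ 0 := sub_ne_zero.2 hne
  set e := κ * (ω - σ ω) with he
  have hσe : σ e = -e := by rw [he, map_mul, map_sub, h.invol, hκ]; ring
  have he0 : e ≠ 0 := mul_ne_zero hκ0 hd
  have hω0 : ω ≠ 0 := fun e' => by rw [e', zero_mul] at hω; exact zero_ne_one hω
  set N := -(ω * e + σ (ω * e)) with hN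
  have hσN : σ N = N := by rw [hN, map_neg, map_add, h.invol, add_comm]
  have hN0 : N ≠ 0 := by
    rw [hN, map_mul, hσe, he]
    rw [show -(ω * (κ * (ω - σ ω)) + σ ω * -(κ * (ω - σ ω))) = -(κ * (ω - σ ω) ^ 2) by ring]
    exact neg_ne_zero.2 (mul_ne_zero hκ0 (pow_ne_zero _ hd))
  obtain ⟨a, ha⟩ := CfsgLib.Geometry.exists_norm_eq h.ne h.invol (c := N) hσN
  have ha0 : a ≠ 0 := fun e' => hN0 (by rw [← ha, e', zero_mul])
  have haz : ω * e + σ (ω * e) + a * σ a = 0 := by rw [ha, hN]; ring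
  let last : Fin m := ⟨m - 1, by omega⟩
  let A : Fin m := ⟨m - 2, by omega⟩
  let z0 : Fin m := ⟨0, by omega⟩
  let k1 : Fin m := ⟨1, by omega⟩
  have hlast : last.val + 1 = m := by simp [last]; omega
  have hA : last.val = A.val + 1 := by simp [last, A]; omega
  obtain ⟨u, hu0, hue, huf, hul, hud⟩ := exists_regular B h last hlast haz
  have hc : σ e⁻¹ = -e⁻¹ := by rw [map_inv₀, hσe, inv_neg]
  obtain ⟨g1, hg1⟩ := exists_transvection_conj B h (u := u) (i := z0) (k := k1)
    (by simp [z0, k1, Fin.ext_iff]) (hu0 z0 rfl) (hue z0 k1 rfl) hc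
  have htop : transvGroup n F q = ⊤ := transvGroup_eq_top hF h n (by omega) (by omega)
  refine ⟨u, g1, g, regular_nilpotent B hn (by omega) last hlast ha0 hu0 hue huf hul hud, ?_⟩
  refine top_of_params h htop B (last := last) (A := A) (z0 := z0) hlast hA rfl
    (g := g) (w := g * u * g⁻¹) (c := e⁻¹) (ω := ω) (δ := δ)
    (Subgroup.subset_closure (by simp)) (Subgroup.subset_closure (by simp)) hδ hσδ hu0 hue huf hul
    hud hge hgf hgd rfl hc (inv_ne_zero he0) hω ?_ ha0 haz
    ⟨_, mul_mem (inv_mem (Subgroup.subset_closure (by simp))) (Subgroup.subset_closure (by simp)),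
      hg1⟩ ?_ ?_
  · field_simp
  · intro e'
    refine hne ?_
    field_simp at e'
    linear_combination -e'
  · intro R hR x hx
    refine hgen R ?_ x hx
    convert hR using 1
    rw [he]
    field_simp
    ring

end CfsgLib.KnownA.SuGen
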