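import Cfsg.Agent.Lib.KnownA.SuGen.Elements
import Cfsg.Agent.Lib.KnownA.SuGen.Field
import Cfsg.Agent.Lib.KnownA.SpGen.Main

/-!
The special unitary group of odd dimension at least five is generated by three conjugate regular
unipotent elements.
-/

set_option autoImplicit false

namespace CfsgLib.KnownA.SuGen

open Matrix CfsgLib.Classical CfsgLib.Classical.Unitary

variable {F : Type*} [Field F] {σ : F →+* F} {q n m : ℕ}

set_option maxHeartbeats 2000000 in
theorem top_of_params (h : UFrob σ q) (htop : transvGroup n F q = ⊤) (B : HFrame σ n m)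
    {H : Subgroup (Cfsg.SU n F q)} {last A z0 : Fin m} (hlast : last.val + 1 = m)
    (hA : last.val = A.val + 1) (hz0 : z0.val = 0) {u g w : Cfsg.SU n F q} (hu : u ∈ H) (hw : w ∈ H)
    {a z c ω δ : F} (hδ : δ * δ = 1) (hσδ : σ δ = δ)
    (hu0 : ∀ i, i.val = 0 → u.1.1 *ᵥ B.e i = B.e i)
    (hue : ∀ i k : Fin m, k.val = i.val + 1 → u.1.1 *ᵥ B.e k = B.e k + B.e i)
    (huf : ∀ i k : Fin m, k.val = i.val + 1 → u.1.1 *ᵥ (B.f i + B.f k) = B.f i)
    (hul : u.1.1 *ᵥ B.f last = B.f last + a • B.d + z • B.e last)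
    (hud : u.1.1 *ᵥ B.d = B.d - σ a • B.e last)
    (hge : ∀ i, g.1.1 *ᵥ B.e i = B.f i) (hgf : ∀ i, g.1.1 *ᵥ B.f i = B.e i)
    (hgd : g.1.1 *ᵥ B.d = δ • B.d) (hwdef : w = g * u * g⁻¹)
    (hc : σ c = -c) (hc0 : c ≠ 0) (hω : ω * σ ω = 1) (hz : c * z = ω) (ha : a ≠ 0)
    (haz : z + σ z + a * σ a = 0) (hT : TIn σ H (B.e z0) c)
    (hne : -(ω / c ^ 2) ≠ -(σ ω / c ^ 2))
    (hgen : ∀ R : Subring F,
      -((ω + σ ω) / c ^ 2) - 2 * δ * ((ω ^ 2 - (σ ω) ^ 2) / c) ∈ R → ∀ x, σ x = x → x ∈ R) :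
    H = ⊤ := by
  have hz0' : z ≠ 0 := by
    rintro rfl
    rw [mul_zero] at hz
    rw [← hz, zero_mul] at hω
    exact zero_ne_one hω
  have hconj : ∀ {x x' v v' : Fin n → F}, g.1.1 *ᵥ x = v → u.1.1 *ᵥ x = x' → g.1.1 *ᵥ x' = v' →
      w.1.1 *ᵥ v = v' := by
    intro x x' v v' h1 h2 h3
    rw [hwdef, su_mul_mulVec, su_mul_mulVec, ← h1, su_inv_mulVec, h2, h3]
  have hwe : ∀ i k : Fin m, k.val = i.val + 1 → w.1.1 *ᵥ (B.e i + B.e k) = B.e i := fun i k hk =>
    hconj (x := B.f i + B.f k) (by rw [mulVec_add, hgf, hgf]) (huf i k hk) (hgf i)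
  have hwf : ∀ i k : Fin m, k.val = i.val + 1 → w.1.1 *ᵥ B.f k = B.f k + B.f i := fun i k hk =>
    hconj (x := B.e k) (hge k) (hue i k hk) (by rw [mulVec_add, hge, hge])
  set b := B.e last with hb
  set y := b + (a * δ) • B.d + z • B.f last with hy
  have hwb : w.1.1 *ᵥ b = y := hconj (x := B.f last) (hgf last) hul (by
    rw [mulVec_add, mulVec_add, mulVec_smul, mulVec_smul, hgf, hgd, hge, smul_smul])
  have hwd : w.1.1 *ᵥ B.d = B.d - (δ * σ a) • B.f last := hconj (x := δ • B.d)
    (by rw [mulVec_smul, hgd, smul_smul, hδ, one_smul]) (by rw [mulVec_smul, hud])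
    (by rw [mulVec_smul, mulVec_sub, mulVec_smul, hgd, hge]; match_scalars <;> simp [hδ])
  -- the chain
  have hsum : ∀ i k : Fin m, k.val = i.val + 1 → TIn σ H (B.e i) c → TIn σ H (B.e i + B.e k) c :=
    fun i k hk hi => hi.move h (inv_mem hw) (by
      conv_lhs => rw [← hwe i k hk]
      rw [su_inv_mulVec])
  have hchain : ∀ i k : Fin m, k.val = i.val + 1 → (u⁻¹ * w⁻¹).1.1 *ᵥ B.e i = B.e k := by
    intro i k hk
    have e1 : (w⁻¹).1.1 *ᵥ B.e i = B.e i + B.e k := by
      conv_lhs => rw [← hwe i k hk]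
      rw [su_inv_mulVec]
    rw [su_mul_mulVec, e1, show B.e i + B.e k = u.1.1 *ᵥ B.e k by rw [hue i k hk, add_comm],
      su_inv_mulVec]
  have hg' : u⁻¹ * w⁻¹ ∈ H := mul_mem (inv_mem hu) (inv_mem hw)
  have he : ∀ j : ℕ, ∀ i : Fin m, i.val = j → TIn σ H (B.e i) c := by
    intro j
    induction j with
    | zero => intro i hi; rwa [show i = z0 from Fin.ext (by omega)]
    | succ j ih => exact fun i hi => (ih ⟨j, by omega⟩ rfl).move h hg' (hchain _ i hi)
  have hne' : A ≠ last := fun e => by rw [e] at hA; omega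
  set f := σ ω • y with hf
  have hσωn : σ ω * σ (σ ω) = 1 := by rw [h.invol, mul_comm, hω]
  -- orthogonality
  have haa : uh σ (B.e A) (B.e A) = 0 := B.ee _ _
  have hab : uh σ (B.e A) b = 0 := B.ee _ _
  have hbb : uh σ b b = 0 := B.ee _ _
  have hyb : uh σ y b = z := by
    simp [hy, hb, uh_add_left, uh_smul_left, B.ee, B.de, B.fe]
  have hby : uh σ b y = σ z := by rw [← h.symm y b, hyb]
  have hyy : uh σ y y = 0 := by rw [← hwb, su_uh h, hbb]
  have hay : uh σ (B.e A) y = 0 := by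
    simp [hy, hb, uh_add_right, uh_smul_right, B.ee, B.ed, B.ef, hne']
  have haf : uh σ (B.e A) f = 0 := by rw [hf, uh_smul_right, hay, mul_zero]
  have hff : uh σ f f = 0 := by rw [hf, uh_smul_left, uh_smul_right, hyy, mul_zero, mul_zero]
  have hfb : uh σ f b = c⁻¹ := by
    rw [hf, uh_smul_left, hyb]
    refine eq_inv_of_mul_eq_one_left ?_
    linear_combination (σ ω) * hz + hω
  set v := u.1.1 *ᵥ y with hv
  have hveq : v = B.e A + (1 + (z * z - δ * (a * σ a))) • b + (a * δ + z * a) • B.d + z • B.f last := by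
    rw [hv, hy, mulVec_add, mulVec_add, mulVec_smul, mulVec_smul, hue A last hA, hud, hul]
    module
  have hva : uh σ v (B.e A) = 0 := by
    rw [hveq]
    simp [hb, uh_add_left, uh_smul_left, B.ee, B.de, B.fe, hne'.symm]
  have hvb : uh σ v b = z := by
    rw [hveq]
    simp [hb, uh_add_left, uh_smul_left, B.ee, B.de, B.fe]
  have hvy : uh σ v y = z * z * σ z - δ * (z + σ z) * (z - σ z) := by
    rw [hveq, hy]
    simp only [hb, uh_add_left, uh_add_right, uh_smul_left, uh_smul_right, B.ee, B.ed, B.de, B.fe,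
      B.ef, B.fd, B.df, B.ff, B.dd, map_mul, if_neg hne', if_pos, hσδ]
    linear_combination (a * σ a) * hδ + haz + (-δ * σ z + z * δ) * haz
  have hvv : uh σ v v = 0 := by rw [hv, su_uh h, hyy]
  -- the transvections
  have hTa : TIn σ H (B.e A) c := he _ A rfl
  have hTb : TIn σ H b c := he _ last rfl
  have hTy : TIn σ H y c := hTb.move h hw hwb
  have hTf : TIn σ H f c := hTy.unit_smul hσωn
  have hTv : TIn σ H v c := hTy.move h hu rfl
  have htrans : ∀ l, TIn σ H (B.e A) (c * l) → TIn σ H f (c * l) := fun l hl =>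
    ((hl.move h hg' (hchain A last hA)).move h hw hwb).unit_smul hσωn
  have hk : ω = c * uh σ v b := by rw [hvb, hz]
  have hσz : σ z = -(σ ω / c) := by
    have := congrArg σ hz
    rw [map_mul, hc] at this
    field_simp
    linear_combination -this
  have hz' : z = ω / c := by field_simp; linear_combination hz
  have hK : σ ω * (c * uh σ v f) = -(ω / c ^ 2) - δ * ((ω ^ 2 - (σ ω) ^ 2) / c) := by
    rw [hf, uh_smul_right, h.invol, hvy, hσz, hz']
    field_simp
    linear_combination (-(c * δ * (ω ^ 2 - (σ ω) ^ 2)) - ω * (ω * σ ω + 1)) * hω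
  have hξ : σ (δ * ((ω ^ 2 - (σ ω) ^ 2) / c)) = δ * ((ω ^ 2 - (σ ω) ^ 2) / c) := by
    rw [map_mul, map_div₀, map_sub, map_pow, map_pow, h.invol, hc, hσδ, ← neg_sub, neg_div_neg_eq]
  have hσK : σ (σ ω * (c * uh σ v f)) = -(σ ω / c ^ 2) - δ * ((ω ^ 2 - (σ ω) ^ 2) / c) := by
    rw [hK, map_sub, hξ, map_neg, map_div₀, map_pow, hc, neg_sq]
  obtain ⟨hfullA, hradb, hradf⟩ := pairField h hc hc0 haa hab haf hbb hff hfb hvv hva hTa hTb hTf
    (hsum A last hA hTa) hTv htrans (k := ω) (K := c * uh σ v f) hk hω rfl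
    (by
      rw [hσK, hK]
      exact fun e => hne (sub_left_inj.1 e))
    (fun R h1 _ _ => hgen R (by
      rw [hσK, hK] at h1
      convert h1 using 1
      ring))
  have hFA : Full σ H (B.e A) := hfullA
  have hbFull : Full σ H b := hFA.move h hg' (hchain A last hA)
  have hyF : Full σ H y := hbFull.move h hw hwb
  have hfF : Full σ H f := hyF.smul h _
  have hvF : Full σ H v := hyF.move h hu rfl
  -- `e A + r • e last`
  have hsumF : ∀ r : F, Full σ H (B.e A + r • b) := by
    intro r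
    obtain ⟨rot, hrot, hra, hrb, hrf⟩ :=
      exists_rot h hc hc0 hab haf hbb hff hfb hTb hTf
    have hcase : ∀ r : F, r ≠ 0 → Full σ H (B.e A + r • b) := by
      intro r hr
      obtain ⟨ζ, g1, hg1, hg1e⟩ := hradb (σ (-(c / r)))
      have h1 : Full σ H (B.e A + r • f) := by
        refine ((hfF.move h hg1 rfl).smul h r).cast_full ?_
        rw [hg1e, h.swap_zero haf, uh_smul_right, hfb, h.invol]
        match_scalars <;> field_simp <;> ring
      have h2 : Full σ H (B.e A + r • f) → Full σ H (B.e A + r • b) := fun h3 =>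
        h3.move h hrot (by rw [mulVec_add, mulVec_smul, hra, hrf])
      exact h2 h1
    rcases eq_or_ne r 0 with rfl | hr
    · rwa [zero_smul, add_zero]
    · exact hcase r hr
  -- the radical
  have hiso : ∀ r : F, ∃ ζ, EIn σ H (B.e A) (r • v) ζ := by
    intro r
    refine ein_of_full h (by simp [uh_smul_left, uh_smul_right, hvv])
      (by simp [uh_smul_left, hva]) (fun s => ?_) hc hc0 (hvF.smul h r)
    rcases eq_or_ne (s * r) 0 with hsr | hsr
    · rw [smul_smul, hsr, zero_smul, zero_add]; exact hFA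
    obtain ⟨ζ, g1, hg1, hg1e⟩ := hradb (σ (-((s * r)⁻¹ / z)))
    obtain ⟨hs0, hr0⟩ := mul_ne_zero_iff.1 hsr
    refine ((hvF.move h hg1 rfl).smul h (s * r)).cast_full ?_
    rw [hg1e, hva, uh_smul_right, hvb, h.invol, smul_smul]
    match_scalars <;> field_simp <;> ring
  have hrad : Radical B H A := by
    intro x hx
    rw [← hA] at hx
    set α := uh σ x b with hα
    set β := uh σ x (B.f last) with hβ
    set γ := uh σ x B.d with hγ
    have hxe : x = β • b + α • B.f last + γ • B.d := by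
      refine B.ext_coord (fun j => ?_) (fun j => ?_) ?_
      · rcases lt_or_eq_of_le (show j.val ≤ last.val by omega) with hj | hj
        · have hne : last ≠ j := fun e => by rw [e] at hj; omega
          simp [uh_add_left, uh_smul_left, (hx j hj).1, hb, B.ee, B.fe, B.de, hne]
        · obtain rfl : j = last := Fin.ext hj
          simp [uh_add_left, uh_smul_left, hb, B.ee, B.fe, B.de, hα]
      · rcases lt_or_eq_of_le (show j.val ≤ last.val by omega) with hj | hj
        · have hne : last ≠ j := fun e => by rw [e] at hj; omega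
          simp [uh_add_left, uh_smul_left, (hx j hj).2, hb, B.ef, B.ff, B.df, hne]
        · obtain rfl : j = last := Fin.ext hj
          simp [uh_add_left, uh_smul_left, hb, B.ef, B.ff, B.df, hβ]
      · simp [uh_add_left, uh_smul_left, hb, B.ed, B.fd, B.dd, hγ]
    -- solve in the basis `b`, `y`, `v - e A`
    let C2 := (γ - α / z * (a * δ)) / (z * a)
    let C1 := α / z - C2
    let C0 := β - C1 - C2 * (1 + (z * z - δ * (a * σ a)))
    obtain ⟨ζ0, E0⟩ := hradb C0
    obtain ⟨ζ1, E1⟩ := hradf (C1 * ω)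
    obtain ⟨ζ2, E2⟩ := hiso C2
    have E2' := E2.shift h (-C2)
    have hf0 : uh σ f (B.e A) = 0 := h.swap_zero haf
    have hbA : uh σ b (B.e A) = 0 := h.swap_zero hab
    have E3 := (E0.mul haa (by rw [uh_smul_right, hab, mul_zero])
      (by rw [uh_smul_left, hf0, mul_zero]) E1).mul haa
      (by simp [uh_add_right, uh_smul_right, hab, haf])
      (by simp [uh_add_left, uh_smul_left, ← neg_smul, hva, haa]) E2'
    refine ⟨_, E3.congr ?_ rfl⟩
    rw [hxe, hveq, hf, smul_smul, mul_assoc, hω, mul_one, hy]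
    simp only [C0, C1, C2]
    match_scalars <;> field_simp <;> ring
  -- the vector starting the induction
  set v0 := w.1.1 *ᵥ y with hv0
  have hv0e : v0 = y + (a * δ) • (B.d - (δ * σ a) • B.f last) + z • (B.f last + B.f A) := by
    rw [hv0]
    conv_lhs => rw [hy]
    rw [mulVec_add, mulVec_add, mulVec_smul, mulVec_smul, hwb, hwd, hwf A last hA]
  refine eq_top_of_frame (B := B) h htop hc hc0 u w hu hw hue (fun i k _ hk => hwe i k hk)
    (fun i k hk _ => hwf i k hk) hu0 A last hA hlast hFA hsumF hrad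
    (v := v0) (hyF.move h hw rfl) ?_ (by rw [hv0, su_uh h, hyy]) ?_
  · intro j hj
    have h1 : last ≠ j := fun e => by rw [e] at hA; omega
    have h2 : A ≠ j := fun e => by rw [e] at hj; omega
    rw [hv0e, hy]
    simp [hb, uh_add_left, uh_sub_left, uh_smul_left, B.ee, B.ef, B.fe, B.ff, B.de, B.df, h1, h2]
  · rw [hv0e, hy]
    simp [hb, uh_add_left, uh_sub_left, uh_smul_left, B.ee, B.fe, B.de, hne'.symm, hz0']

end CfsgLib.KnownA.SuGen
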