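import Cfsg.Agent.Lib.KnownA.SuGen.Final
import Cfsg.Agent.Lib.Classical.UnitarySimple

/-!
The three dimensional special unitary group is generated by three conjugate regular unipotent
elements.
-/

set_option autoImplicit false

namespace CfsgLib.KnownA.SuGen

open Matrix CfsgLib.Classical CfsgLib.Classical.Unitary

variable {F : Type*} [Field F] {σ : F →+* F} {q n : ℕ}

theorem EIn.unscale {H : Subgroup (Cfsg.SU n F q)} {a w : Fin n → F} {ζ : F} (h : UFrob σ q)
    (ξ : F) (ht : EIn σ H (ξ • a) w ζ) : EIn σ H a (σ ξ • w) (ζ * (ξ * σ ξ)) := by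
  obtain ⟨t, ht, hte⟩ := ht
  refine ⟨t, ht, fun x => ?_⟩
  rw [hte, uh_smul_right, uh_smul_right, h.invol]
  module

/-- An isometry fixing the lines of a frame with prescribed action on the pair. -/
theorem exists_pair_map [Finite F] (hF : Nat.card F = q ^ 2) (h : UFrob σ q) (hn : 1 ≤ n)
    (B : HFrame σ n 1) {r : F} (hr : r ≠ 0) :
    ∃ (g : Cfsg.SU n F q) (χ : F), χ * σ χ = 1 ∧ g.1.1 *ᵥ B.e 0 = r • B.f 0 ∧
      g.1.1 *ᵥ B.f 0 = (σ r)⁻¹ • B.e 0 ∧ g.1.1 *ᵥ B.d = χ • B.d := by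
  classical
  let L : (Fin n → F) →ₗ[F] (Fin n → F) :=
    { toFun := fun x => (uh σ x (B.f 0) * r) • B.f 0 + (uh σ x (B.e 0) * (σ r)⁻¹) • B.e 0 +
        uh σ x B.d • B.d
      map_add' := fun x y => by simp only [uh_add_left, add_mul, add_smul]; abel
      map_smul' := fun s x => by
        simp only [uh_smul_left, RingHom.id_apply, smul_add, smul_smul, mul_assoc] }
  have hr' : σ r ≠ 0 := (map_ne_zero σ).2 hr
  have hiso : ∀ x y, uh σ (L x) (L y) = uh σ x y := by
    intro x y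
    conv_rhs => rw [B.expand x, B.expand y]
    simp only [L, LinearMap.coe_mk, AddHom.coe_mk, Fin.sum_univ_one, uh_add_left, uh_add_right,
      uh_smul_left, uh_smul_right, B.ee, B.ff, B.ef, B.fe, B.ed, B.de, B.fd, B.df, B.dd, if_pos,
      map_mul, map_inv₀, h.invol]
    field_simp
    ring
  set M := LinearMap.toMatrix' L with hM
  have hMv : ∀ x, M *ᵥ x = L x := fun x => LinearMap.toMatrix'_mulVec L x
  have hdet0 : M.det ≠ 0 := by
    intro e
    obtain ⟨v, hv0, hv⟩ := Matrix.exists_mulVec_eq_zero_iff.2 e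
    refine hv0 (uh_ext h (v := 0) fun x => ?_)
    rw [← hiso, uh_zero_right]
    rw [← hMv v, hv, uh_zero_right]
  let G : GL (Fin n) F := GeneralLinearGroup.mkOfDetNeZero M hdet0
  have hG : G ∈ Cfsg.GU n F q := fun x y => by
    show Cfsg.hermForm n F q (M *ᵥ x) (M *ᵥ y) = _
    rw [h.hermForm_eq, h.hermForm_eq, hMv, hMv, hiso]
  have hD : M.det * σ M.det = 1 := gu_det_norm hF h hn hG
  obtain ⟨g, hg⟩ := su_of_gu h hG (tMat σ B.d (σ M.det - 1))
    (fun x y => by
      simp only [tMat_mulVec, uh_add_left, uh_add_right, uh_smul_left, uh_smul_right, B.dd,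
        map_mul, map_sub, map_one, h.invol, h.symm]
      linear_combination (uh σ x B.d * uh σ B.d y) * hD)
    (by
      rw [det_tMat, B.dd, mul_one, add_sub_cancel, show G.1 = M from rfl, mul_comm, hD])
  refine ⟨g, σ M.det, by rw [h.invol, mul_comm, hD], ?_, ?_, ?_⟩
  all_goals rw [hg, show G.1 = M from rfl, hMv, tMat_mulVec]
  · simp [L, B.ee, B.ef, B.ed, uh_smul_left, B.fd, uh_add_left]
  · simp [L, B.ff, B.fe, B.fd, uh_smul_left, B.ed, uh_add_left]
  · simp [L, B.de, B.df, B.dd, uh_smul_left, B.ed, B.fd, uh_add_left]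
    module

theorem subring_top_of_gen [Finite F] {φ : F} {R : Subring F} (hφ : φ ∈ R)
    (hgen : Subring.closure ({φ} : Set F) = ⊤) (x : F) : x ∈ R := by
  have : (⊤ : Subring F) ≤ R := by
    rw [← hgen, Subring.closure_le, Set.singleton_subset_iff]; exact hφ
  exact this (Subring.mem_top x)

set_option maxHeartbeats 1000000 in
/-- The main criterion in dimension three. -/
theorem top_of_params_three [Finite F] (h : UFrob σ q) (htop : transvGroup n F q = ⊤)
    (B : HFrame σ n 1) {H : Subgroup (Cfsg.SU n F q)} {u g w : Cfsg.SU n F q} (hu : u ∈ H)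
    (hw : w ∈ H) {a χ γ ρ c : F} (hχ : χ * σ χ = 1) (hρ : ρ ≠ 0) (hc : σ c = -c) (hc0 : c ≠ 0)
    (hγ : γ * σ γ = -(ρ + σ ρ)) (ha : a = -(γ / (χ * σ ρ))) (ha0 : a ≠ 0)
    (hue : u.1.1 *ᵥ B.e 0 = B.e 0) (hud : u.1.1 *ᵥ B.d = B.d - σ a • B.e 0)
    (huf : u.1.1 *ᵥ B.f 0 = B.f 0 + a • B.d + (σ ρ)⁻¹ • B.e 0)
    (huE : EIn σ H (B.e 0) (a • B.d) (σ ρ)⁻¹)
    (hge : g.1.1 *ᵥ B.e 0 = σ ρ • B.f 0 + γ • B.d + B.e 0)
    (hgf : g.1.1 *ᵥ B.f 0 = ρ⁻¹ • B.e 0)
    (hgd : g.1.1 *ᵥ B.d = χ • B.d - (χ * (σ γ / ρ)) • B.e 0)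
    (hwdef : w = g * u * g⁻¹) (hT : TIn σ H (B.e 0) c)
    (hTl : TIn σ H (B.e 0) (c / ((ρ * c) * σ (ρ * c))))
    (hgen : Subring.closure ({σ (-(ρ * c)) * (-σ ρ / ρ)} : Set F) = ⊤) : H = ⊤ := by
  set b := B.e 0 with hb
  have hρ' : σ ρ ≠ 0 := (map_ne_zero σ).2 hρ
  have hχ0 : χ ≠ 0 := fun e => by rw [e, zero_mul] at hχ; exact zero_ne_one hχ
  have hconj : ∀ {x x' v v' : Fin n → F}, g.1.1 *ᵥ x = v → u.1.1 *ᵥ x = x' → g.1.1 *ᵥ x' = v' →
      w.1.1 *ᵥ v = v' := by
    intro x x' v v' h1 h2 h3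
    rw [hwdef, su_mul_mulVec, su_mul_mulVec, ← h1, su_inv_mulVec, h2, h3]
  have hσχ : σ χ = χ⁻¹ := eq_inv_of_mul_eq_one_right hχ
  have hσa : σ a = -(χ * (σ γ / ρ)) := by
    rw [ha, map_neg, map_div₀, map_mul, h.invol, hσχ]
    field_simp
  have hwb : w.1.1 *ᵥ b = ρ • B.f 0 := hconj (x := ρ • B.f 0)
    (by rw [mulVec_smul, hgf, smul_smul, mul_inv_cancel₀ hρ, one_smul]) (by rw [mulVec_smul, huf])
    (by
      rw [mulVec_smul, mulVec_add, mulVec_add, mulVec_smul, mulVec_smul, hgf, hgd, hge, ha]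
      match_scalars <;> field_simp <;> (first | ring1 | linear_combination hγ))
  have hwd : uh σ (w.1.1 *ᵥ B.d) B.d = -σ ρ / ρ := by
    rw [hconj (v := B.d) (x := χ⁻¹ • B.d + σ γ • B.f 0) ?_ rfl rfl]
    · rw [mulVec_add, mulVec_smul, mulVec_smul, hud, huf, mulVec_add, mulVec_smul, mulVec_smul,
        mulVec_sub, mulVec_add, mulVec_add, mulVec_smul, mulVec_smul, mulVec_smul, hgd, hgf, hge]
      simp only [uh_add_left, uh_sub_left, uh_smul_left, hb, B.ed, B.dd, B.fd]
      rw [hσa, ha]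
      field_simp
      linear_combination (σ ρ) * hγ
    · rw [mulVec_add, mulVec_smul, mulVec_smul, hgd, hgf]
      match_scalars <;> field_simp <;> ring
  set f := c⁻¹ • B.f 0 with hf
  have hdb : uh σ B.d b = 0 := B.de 0
  have hdf : uh σ B.d f = 0 := by rw [hf, uh_smul_right, B.df, mul_zero]
  have hbb : uh σ b b = 0 := B.ee 0 0
  have hff : uh σ f f = 0 := by rw [hf, uh_smul_left, uh_smul_right, B.ff, mul_zero, mul_zero]
  have hfb : uh σ f b = c⁻¹ := by rw [hf, hb, uh_smul_left, B.fe, if_pos rfl, mul_one]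
  have hTf : TIn σ H f c := by
    have h1 : TIn σ H ((ρ * c)⁻¹ • (w.1.1 *ᵥ b)) c := TIn.smul _ ((hTl.congr rfl (by
      rw [map_inv₀]; field_simp)).move h hw rfl)
    exact h1.congr (by rw [hwb, hf, smul_smul]; match_scalars; field_simp) rfl
  obtain ⟨r, hr, hrd, hrb, hrf⟩ := exists_rot h hc hc0 hdb hdf hbb hff hfb hT hTf
  set t := r⁻¹ * w with htdef
  have ht : t ∈ H := mul_mem (inv_mem hr) hw
  have htb : t.1.1 *ᵥ b = (-(ρ * c)) • b := by
    have e : ρ • B.f 0 = r.1.1 *ᵥ ((-(ρ * c)) • b) := by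
      rw [mulVec_smul, hrb, hf]; match_scalars; field_simp
    rw [htdef, su_mul_mulVec, hwb, e, su_inv_mulVec]
  have htd : ∃ k : F, t.1.1 *ᵥ B.d = (-σ ρ / ρ) • B.d + k • b := by
    refine ⟨uh σ (t.1.1 *ᵥ B.d) (B.f 0), B.ext_coord (fun i => ?_) (fun i => ?_) ?_⟩
    · obtain rfl : i = 0 := Subsingleton.elim _ _
      have h1 : uh σ (t.1.1 *ᵥ B.d) (t.1.1 *ᵥ b) = 0 := by rw [su_uh h, hdb]
      rw [htb, uh_smul_right, mul_eq_zero, map_eq_zero] at h1
      have h2 := h1.resolve_left (neg_ne_zero.2 (mul_ne_zero hρ hc0))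
      rw [hb] at h2
      simp [uh_add_left, uh_smul_left, hb, h2, B.de, B.ee]
    · obtain rfl : i = 0 := Subsingleton.elim _ _
      simp [uh_add_left, uh_smul_left, hb, B.df, B.ef]
    · have h1 : uh σ (t.1.1 *ᵥ B.d) B.d = uh σ (w.1.1 *ᵥ B.d) (r.1.1 *ᵥ B.d) := by
        rw [htdef, su_mul_mulVec, uh_inv_mulVec h]
      rw [h1, hrd, hwd]
      simp [uh_add_left, uh_smul_left, hb, B.ed, B.dd]
  obtain ⟨k, htd⟩ := htd
  -- the unipotent radical
  have hbd : uh σ b B.d = 0 := B.ed 0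
  let X : F → Prop := fun x => ∃ ζ, EIn σ H b (x • B.d) ζ
  have hXadd : ∀ {x y}, X x → X y → X (x + y) := by
    rintro x y ⟨ζ, hx⟩ ⟨ζ', hy⟩
    exact ⟨_, (hx.mul hbb (by rw [uh_smul_right, hbd, mul_zero])
      (by rw [uh_smul_left, hdb, mul_zero]) hy).congr (by rw [add_smul]) rfl⟩
  have hXneg : ∀ {x}, X x → X (-x) := by
    rintro x ⟨ζ, hx⟩
    exact ⟨_, (hx.inv hbb (by rw [uh_smul_right, hbd, mul_zero])
      (by rw [uh_smul_left, hdb, mul_zero])).congr (by rw [neg_smul]) rfl⟩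
  set φ := σ (-(ρ * c)) * (-σ ρ / ρ) with hφ
  have hXφ : ∀ {x}, X x → X (φ * x) := by
    rintro x ⟨ζ, hx⟩
    have h1 := (hx.move h ht htb (by rw [mulVec_smul, htd])).unscale h (-(ρ * c))
    exact ⟨_, (h1.shift h (-(σ (-(ρ * c)) * (x * k)))).congr (by rw [hφ]; module) rfl⟩
  let R : Subring F :=
    { carrier := {y | ∀ m, X m → X (y * m)}
      mul_mem' := fun {p q} hp hq m hm => by rw [mul_assoc]; exact hp _ (hq m hm)
      one_mem' := fun m hm => by rw [one_mul]; exact hm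
      add_mem' := fun {p q} hp hq m hm => by rw [add_mul]; exact hXadd (hp m hm) (hq m hm)
      zero_mem' := fun m hm => by
        rw [zero_mul, ← add_neg_cancel m]; exact hXadd hm (hXneg hm)
      neg_mem' := fun {p} hp m hm => by rw [neg_mul]; exact hXneg (hp m hm) }
  have hall : ∀ x, X x := fun x => by
    have := subring_top_of_gen (R := R) (show φ ∈ R from fun m hm => hXφ hm) hgen (x / a) a
      ⟨_, huE⟩
    rwa [div_mul_cancel₀ _ ha0] at this
  have hFb : Full σ H b := by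
    intro D hD
    obtain ⟨θ, hθ⟩ := exists_trace h
    obtain ⟨ζ₁, h1⟩ := hall (θ * D)
    obtain ⟨ζ₂, h2⟩ := hall 1
    have o1 : ∀ x : F, uh σ b (x • B.d) = 0 := fun x => by rw [uh_smul_right, hbd, mul_zero]
    have o2 : ∀ x : F, uh σ (x • B.d) b = 0 := fun x => by rw [uh_smul_left, hdb, mul_zero]
    have e1 := h1.mul hbb (o1 _) (o2 _) h2
    have e2 := (h2.mul hbb (o1 _) (o2 _) h1).inv hbb
      (by rw [uh_add_right, o1, o1, add_zero]) (by rw [uh_add_left, o2, o2, add_zero])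
    have e3 := e1.mul hbb (by rw [uh_add_right, o1, o1, add_zero])
      (by rw [← neg_one_smul F (_ + _), uh_smul_left, uh_add_left, o2, o2, add_zero, mul_zero]) e2
    refine (e3.congr (w' := 0) (by abel) ?_).toT
    simp only [← neg_one_smul F (_ + _), uh_smul_left, uh_smul_right, uh_add_left, uh_add_right,
      B.dd, map_one, map_mul]
    rw [show σ D = -D by linear_combination hD]
    linear_combination D * hθ
  have hrad : Radical B H (0 : Fin 1) := by
    intro x hx
    obtain ⟨ζ, hz⟩ := hall (uh σ x B.d)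
    refine ⟨ζ, hz.congr (B.ext_coord (fun i => ?_) (fun i => ?_) ?_) rfl⟩
    · rw [uh_smul_left, B.de, mul_zero, (hx i (by omega)).1]
    · rw [uh_smul_left, B.df, mul_zero, (hx i (by omega)).2]
    · rw [uh_smul_left, B.dd, mul_one]
  have hwbF : Full σ H (w.1.1 *ᵥ b) := hFb.move h hw rfl
  obtain ⟨-, hS⟩ := spread_of_radical h hc hc0 (0 : Fin 1) hFb hrad hwbF
    (fun j hj => absurd hj (Nat.not_lt_zero _)) (by rw [su_uh h, hbb])
    (by rw [hwb, uh_smul_left, B.fe, if_pos rfl, mul_one]; exact hρ)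
  exact eq_top_of_full h htop fun x hxx hx0 =>
    (hS x (fun j hj => absurd hj (Nat.not_lt_zero _)) hxx hx0).1

/-- The parameters in dimension three. -/
theorem exists_params_three [Finite F] (hF : Nat.card F = q ^ 2) (h : UFrob σ q) (hq : 3 ≤ q) :
    ∃ l : F, l ≠ σ l ∧ Subring.closure ({σ l * (σ l / l)} : Set F) = ⊤ ∧
      ((l * σ l = 1) ∨ (l + σ l = 1 ∧ (2 : F) = 0) ∨ q.Prime) := by
  classical
  obtain ⟨⟨u, hu⟩, hgen⟩ := IsCyclic.exists_generator (α := normOne F q)
  have hord : orderOf u = q + 1 := by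
    rw [← card_normOne hF, ← orderOf_eq_card_of_forall_mem_zpowers hgen, Subgroup.orderOf_mk]
  set ω : F := (u : F) with hωdef
  have hωn : ω * σ ω = 1 := by
    rw [h.pow, ← pow_succ']
    exact congrArg Units.val (MonoidHom.mem_ker.1 hu)
  have hσω : σ ω = ω⁻¹ := eq_inv_of_mul_eq_one_right hωn
  have hω0 : ω ≠ 0 := u.ne_zero
  have hpowω : ∀ {j : ℕ}, ω ^ j = 1 → q + 1 ∣ j := fun {j} e => hord ▸
    orderOf_dvd_of_pow_eq_one (show u ^ j = 1 from Units.ext (by simpa [hωdef] using e))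
  have hωne : ω ≠ σ ω := fun e => by
    have : ω ^ 2 = 1 := by rw [sq]; nth_rw 2 [e]; exact hωn
    have := Nat.le_of_dvd (by omega) (hpowω this)
    omega
  obtain ⟨p, hp⟩ := CharP.exists F
  have : Fact p.Prime := ⟨CharP.char_is_prime F p⟩
  have hpp : p.Prime := Fact.out
  obtain ⟨e, hek, hqp⟩ : ∃ e : ℕ, 1 ≤ e ∧ q = p ^ e := by
    have := Fintype.ofFinite F
    obtain ⟨j, -, hj⟩ := FiniteField.card F p
    rw [← Nat.card_eq_fintype_card, hF] at hj
    obtain ⟨i, -, hi⟩ := (Nat.dvd_prime_pow hpp).1 (hj ▸ dvd_pow_self q two_ne_zero : q ∣ p ^ (j : ℕ))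
    refine ⟨i, ?_, hi⟩
    by_contra h0
    rw [show i = 0 by omega, pow_zero] at hi
    omega
  -- proper subrings
  have hsub : ∀ φ : F, φ ≠ 0 → Subring.closure ({φ} : Set F) ≠ ⊤ →
      ∃ d : ℕ, 1 ≤ d ∧ d ≤ e ∧ φ ^ (p ^ d - 1) = 1 := by
    intro φ hφ0 hne
    set R := Subring.closure ({φ} : Set F)
    have h2 := SpGen.not_mem_sq_le hne
    have hdvd : Nat.card R ∣ Nat.card F := AddSubgroup.card_addSubgroup_dvd_card R.toAddSubgroup
    rw [hF, hqp, ← pow_mul] at hdvd h2
    obtain ⟨d, -, hd⟩ := (Nat.dvd_prime_pow hpp).1 hdvd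
    have h1 : 1 < Nat.card R := Finite.one_lt_card
    refine ⟨d, ?_, ?_, ?_⟩
    · by_contra h0
      rw [show d = 0 by omega] at hd; simp at hd; omega
    · rw [hd, ← pow_mul] at h2
      have := (Nat.pow_le_pow_iff_right hpp.one_lt).1 h2
      omega
    · letI := Fintype.ofFinite R
      letI := Fintype.fieldOfDomain R
      have hx : (⟨φ, Subring.subset_closure rfl⟩ : R) ≠ 0 := fun e' => hφ0 (congrArg Subtype.val e')
      have := FiniteField.pow_card_sub_one_eq_one (⟨φ, Subring.subset_closure rfl⟩ : R) hx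
      rw [← Nat.card_eq_fintype_card, hd] at this
      exact congrArg Subtype.val this
  by_cases hqprime : q.Prime
  · obtain ⟨g, hg⟩ := IsCyclic.exists_generator (α := Fˣ)
    have hgord : orderOf g = q ^ 2 - 1 := by
      rw [orderOf_eq_card_of_forall_mem_zpowers hg, card_units_field, hF]
    have he1 : e = 1 := Nat.Prime.eq_one_of_pow (hqp ▸ hqprime)
    refine ⟨(g : F), fun e' => ?_, ?_, .inr (.inr hqprime)⟩
    · rw [h.pow] at e'
      have h1 : g ^ (q - 1) = 1 := by
        refine Units.ext (mul_right_cancel₀ g.ne_zero ?_)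
        rw [Units.val_one, one_mul, Units.val_pow_eq_pow_val, ← pow_succ,
          Nat.sub_add_cancel (by omega), ← e']
      have h2 := Nat.le_of_dvd (by omega) (orderOf_dvd_of_pow_eq_one h1)
      rw [hgord] at h2
      nlinarith [Nat.sub_add_cancel (show 1 ≤ q ^ 2 by nlinarith), Nat.sub_add_cancel (show 1 ≤ q by omega)]
    · by_contra hne
      obtain ⟨d, hd1, hd2, hd⟩ := hsub _ (by simp) hne
      rw [show d = 1 by omega, pow_one, show p = q by rw [hqp, he1, pow_one]] at hd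
      have e2 : σ (g : F) * (σ (g : F) / g) = ((g ^ (2 * q - 1) : Fˣ) : F) := by
        rw [Units.val_pow_eq_pow_val, h.pow, mul_div_assoc', eq_comm, eq_div_iff g.ne_zero,
          ← pow_succ, ← pow_add]
        congr 1; omega
      rw [e2, ← Units.val_pow_eq_pow_val, Units.val_eq_one, ← pow_mul] at hd
      have h3 := orderOf_dvd_of_pow_eq_one hd
      rw [hgord, show q ^ 2 - 1 = (q + 1) * (q - 1) by rw [← one_pow 2, Nat.sq_sub_sq, one_pow]]
        at h3
      have h4 : q + 1 ∣ 2 * q - 1 := (Nat.mul_dvd_mul_iff_right (by omega)).1 h3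
      have h5 : q + 1 ∣ 3 := by
        have := Nat.dvd_sub (dvd_mul_left (q + 1) 2) h4
        rwa [show 2 * (q + 1) - (2 * q - 1) = 3 by omega] at this
      have := Nat.le_of_dvd (by omega) h5
      omega
  have he2 : 2 ≤ e := by
    by_contra h0
    rw [show e = 1 by omega, pow_one] at hqp
    exact hqprime (hqp ▸ hpp)
  have hω3 : ∀ j : ℕ, ((σ ω) ^ 3) ^ j = 1 → q + 1 ∣ 3 * j := fun j hj => hpowω (by
    rw [hσω, inv_pow, inv_pow, inv_eq_one, ← pow_mul] at hj
    exact hj)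
  have hφω : σ ω * (σ ω / ω) = (σ ω) ^ 3 := by
    rw [div_eq_mul_inv, ← hσω]; ring
  by_cases hq8 : q = 8
  · have hp2 : p = 2 := by
      have : p ∣ 2 ^ 3 := by rw [show 2 ^ 3 = q by omega, hqp]; exact dvd_pow_self p (by omega)
      exact (Nat.prime_dvd_prime_iff_eq hpp Nat.prime_two).1 (hpp.dvd_of_dvd_pow this)
    subst hp2
    have h2 : (2 : F) = 0 := CharTwo.two_eq_zero
    set s := ω + σ ω with hs
    have hσs : σ s = s := by rw [hs, map_add, h.invol, add_comm]
    have hs0 : s ≠ 0 := fun e' => hωne (by linear_combination e' - σ ω * h2)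
    have hs1 : s ≠ 1 := fun e' => by
      have : ω ^ 3 = 1 := by
        linear_combination (ω * ω + ω) * e' - (ω + 1) * hωn - h2
      have := Nat.le_of_dvd (by omega) (hpowω this)
      omega
    have hs7 : s ^ 7 = 1 := by
      have h8 : s ^ 8 = s := by rw [← hq8, ← h.pow, hσs]
      refine mul_right_cancel₀ hs0 ?_
      rw [one_mul, ← pow_succ, h8]
    refine ⟨ω / s, ?_, ?_, .inr (.inl ⟨?_, h2⟩)⟩
    · rw [map_div₀, hσs]
      exact fun e' => hωne ((div_left_inj' hs0).1 e')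
    · have e2 : σ (ω / s) * (σ (ω / s) / (ω / s)) = (σ ω) ^ 3 / s := by
        rw [map_div₀, hσs, ← hφω]; field_simp
      rw [e2]
      by_contra hne
      obtain ⟨d, hd1, hd2, hd⟩ := hsub _ (div_ne_zero (pow_ne_zero _ ((map_ne_zero σ).2 hω0)) hs0) hne
      have he3 : e = 3 := Nat.pow_right_injective le_rfl (show 2 ^ e = 2 ^ 3 by omega)
      have h9 : (σ ω) ^ 9 = 1 := by
        rw [hσω, inv_pow, inv_eq_one, ← orderOf_dvd_iff_pow_eq_one]
        rw [hωdef, orderOf_units, hord, hq8]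
      rw [div_pow, div_eq_one_iff_eq (pow_ne_zero _ hs0)] at hd
      have hd' : d = 1 ∨ d = 2 ∨ d = 3 := by omega
      rcases hd' with rfl | rfl | rfl
      · norm_num at hd
        have h6 : ((σ ω) ^ 3) ^ 7 = 1 := by rw [hd, hs7]
        have := hω3 7 h6
        rw [hq8] at this
        norm_num at this
      · norm_num at hd
        rw [← pow_mul, h9] at hd
        refine hs1 ?_
        calc s = s * (s ^ 3 * s ^ 3) := by rw [← hd, one_mul, mul_one]
          _ = s ^ 7 := by ring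
          _ = 1 := hs7
      · norm_num at hd
        have h6 : ((σ ω) ^ 3) ^ 7 = 1 := by rw [hd, hs7]
        have := hω3 7 h6
        rw [hq8] at this
        norm_num at this
    · rw [map_div₀, hσs, ← add_div, ← hs, div_self hs0]
  refine ⟨ω, hωne, ?_, .inl hωn⟩
  rw [hφω]
  by_contra hne
  obtain ⟨d, hd1, hd2, hd⟩ := hsub _ (pow_ne_zero _ ((map_ne_zero σ).2 hω0)) hne
  obtain ⟨i, hi⟩ := hω3 _ hd
  have hr1 : p ≤ p ^ d := Nat.le_self_pow (by omega) p
  have hp2' : 2 ≤ p := hpp.two_le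
  rcases Nat.lt_or_ge d e with hlt | hge
  · have h1 : p * p ^ d ≤ q := by
      rw [hqp, ← pow_succ']; exact Nat.pow_le_pow_right hpp.pos hlt
    rcases Nat.lt_or_ge p 3 with hp3 | hp3
    · obtain rfl : p = 2 := by omega
      have hi1 : i = 1 := by
        rcases i with _ | _ | i
        · omega
        · rfl
        · exfalso
          have : (q + 1) * 2 ≤ (q + 1) * (i + 2) := Nat.mul_le_mul_left _ (by omega)
          have hi' : 3 * (2 ^ d - 1) = (q + 1) * (i + 2) := hi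
          omega
      rw [hi1, mul_one] at hi
      rcases Nat.lt_or_ge d 3 with hd3 | hd3
      · interval_cases d
        · norm_num at hi; omega
        · norm_num at hi; exact hq8 (by omega)
      · have h8r : 8 ∣ 2 ^ d := Nat.pow_dvd_pow 2 hd3
        have h8q : 8 ∣ q := by rw [hqp, show 8 = 2 ^ 3 from rfl]; exact Nat.pow_dvd_pow 2 (by omega)
        omega
    · have : 3 * p ^ d ≤ q := le_trans (Nat.mul_le_mul_right _ hp3) h1
      rcases i with _ | i
      · omega
      · have h' : (q + 1) * 1 ≤ (q + 1) * (i + 1) := Nat.mul_le_mul_left _ (by omega)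
        omega
  · rw [show d = e by omega, ← hqp] at hi
    rcases i with _ | _ | _ | i
    · omega
    · omega
    · have : q = 5 := by omega
      exact hqprime (by rw [this]; decide)
    · have h' : (q + 1) * 3 ≤ (q + 1) * (i + 3) := Nat.mul_le_mul_left _ (by omega)
      have hi' : 3 * (q - 1) = (q + 1) * (i + 3) := hi
      omega

/-- The group is generated by three conjugates of a regular unipotent element. -/
theorem threeSu_three [Finite F] (hF : Nat.card F = q ^ 2) (hq : 3 ≤ q) :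
    ∃ u g h : ↥(Cfsg.SU 3 F q),
      (IsNilpotent (((u : Matrix.SpecialLinearGroup (Fin 3) F) : Matrix (Fin 3) (Fin 3) F) - 1) ∧
        (((u : Matrix.SpecialLinearGroup (Fin 3) F) : Matrix (Fin 3) (Fin 3) F) - 1) ^ (3 - 1) ≠ 0) ∧
      Subgroup.closure ({u, g * u * g⁻¹, h * u * h⁻¹} : Set ↥(Cfsg.SU 3 F q)) = ⊤ := by
  obtain ⟨σ, h⟩ := exists_uFrob hF
  obtain ⟨B⟩ := exists_frame (σ := σ) (m := 1) hF h rfl
  obtain ⟨l, hl, hgen, hcase⟩ := exists_params_three hF h hq
  have hd : l - σ l ≠ 0 := sub_ne_zero.2 hl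
  obtain ⟨c, hcdef⟩ : ∃ c, c = l - σ l := ⟨_, rfl⟩
  rw [← hcdef] at hd
  have hc : σ c = -c := by rw [hcdef, map_sub, h.invol]; ring
  have hl0 : l ≠ 0 := fun e => hl (by rw [e, map_zero])
  obtain ⟨ρ, hρdef⟩ : ∃ ρ, ρ = -l / c := ⟨_, rfl⟩
  have hρ : ρ ≠ 0 := by rw [hρdef]; exact div_ne_zero (neg_ne_zero.2 hl0) hd
  have hσρ : σ ρ = σ l / c := by rw [hρdef, map_div₀, map_neg, hc, neg_div_neg_eq]
  have hσρ0 : σ ρ ≠ 0 := (map_ne_zero σ).2 hρ
  have hN : -(ρ + σ ρ) = 1 := by rw [hσρ, hρdef]; field_simp; rw [hcdef]; ring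
  obtain ⟨γ, hγ⟩ := CfsgLib.Geometry.exists_norm_eq h.ne h.invol (c := (1 : F)) (map_one σ)
  have hγ' : γ * σ γ = -(ρ + σ ρ) := by rw [hN, hγ]
  obtain ⟨n1, χ, hχ, hne, hnf, hnd⟩ := exists_pair_map hF h (by omega) B hσρ0
  rw [h.invol] at hnf
  let z0 : F := (σ ρ)⁻¹
  have hx : z0 + σ z0 + (γ / σ ρ) * σ (γ / σ ρ) = 0 := by
    simp only [z0, map_inv₀, map_div₀, h.invol]
    field_simp
    linear_combination hγ'
  let Ex := usg h (B.e 0) B.d (γ / σ ρ) z0 (B.ee 0 0) (B.de 0) (by rw [B.dd, mul_one, hx])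
  have hEx : ∀ x, Ex.1.1 *ᵥ x = x + ((γ / σ ρ) * uh σ x (B.e 0)) • B.d +
      (z0 * uh σ x (B.e 0) - σ (γ / σ ρ) * uh σ x B.d) • B.e 0 := fun x => usg_mulVec h _ _ x _ z0 _ _ _
  obtain ⟨a, ha⟩ : ∃ a, a = -(γ / (χ * σ ρ)) := ⟨_, rfl⟩
  have hγ0 : γ ≠ 0 := fun e => by rw [e, zero_mul] at hγ; exact zero_ne_one hγ
  have hχ0 : χ ≠ 0 := fun e => by rw [e, zero_mul] at hχ; exact zero_ne_one hχ
  have ha0 : a ≠ 0 := by rw [ha]; exact neg_ne_zero.2 (div_ne_zero hγ0 (mul_ne_zero hχ0 hσρ0))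
  have hanorm : a * σ a = 1 / (ρ * σ ρ) := by
    rw [ha, map_neg, map_div₀, map_mul, h.invol, eq_inv_of_mul_eq_one_right hχ]
    field_simp
    linear_combination hγ
  have haz : z0 + σ z0 + a * σ a = 0 := by
    simp only [z0, map_inv₀, h.invol, hanorm]
    field_simp
    linear_combination -hN
  let u := usg h (B.e 0) B.d a z0 (B.ee 0 0) (B.de 0) (by rw [B.dd, mul_one, haz])
  have hu : ∀ x, u.1.1 *ᵥ x = x + (a * uh σ x (B.e 0)) • B.d +
      (z0 * uh σ x (B.e 0) - σ a * uh σ x B.d) • B.e 0 := fun x => usg_mulVec h _ _ x _ z0 _ _ _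
  have hue : u.1.1 *ᵥ B.e 0 = B.e 0 := by rw [hu, B.ee, B.ed]; simp
  have hud : u.1.1 *ᵥ B.d = B.d - σ a • B.e 0 := by rw [hu, B.de, B.dd]; simp [sub_eq_add_neg]
  have huf : u.1.1 *ᵥ B.f 0 = B.f 0 + a • B.d + z0 • B.e 0 := by
    rw [hu, B.fe, if_pos rfl, B.fd]; simp
  have hreg := regular_nilpotent B (u := u) rfl le_rfl (0 : Fin 1) rfl ha0
    (fun i _ => by rw [Subsingleton.elim i 0, hue]) (fun i k hk => absurd hk (by omega))
    (fun i k hk => absurd hk (by omega)) huf hud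
  obtain ⟨θ, hθ⟩ := exists_trace h
  obtain ⟨r, hr⟩ : ∃ r, r = θ * c / σ a := ⟨_, rfl⟩
  let g1 := usg h (B.e 0) B.d r (-(θ * (r * σ r))) (B.ee 0 0) (B.de 0) (by
    rw [B.dd, mul_one, map_neg, map_mul, map_mul, h.invol]
    linear_combination (-(r * σ r)) * hθ)
  have hg1 : ∀ x, g1.1.1 *ᵥ x = x + (r * uh σ x (B.e 0)) • B.d +
      (-(θ * (r * σ r)) * uh σ x (B.e 0) - σ r * uh σ x B.d) • B.e 0 := fun x =>
    usg_mulVec h _ _ x _ _ _ _ _
  refine ⟨u, g1, Ex * n1, hreg, ?_⟩
  set H := Subgroup.closure ({u, g1 * u * g1⁻¹, Ex * n1 * u * (Ex * n1)⁻¹} :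
    Set ↥(Cfsg.SU 3 F q))
  have huH : u ∈ H := Subgroup.subset_closure (by simp)
  have huE : EIn σ H (B.e 0) (a • B.d) z0 := ⟨u, huH, fun x => by
    rw [hu, uh_smul_right]; module⟩
  have hT : TIn σ H (B.e 0) c := by
    refine ⟨u⁻¹ * (g1 * u * g1⁻¹), mul_mem (inv_mem huH) (Subgroup.subset_closure (by simp)),
      fun x => ?_⟩
    rw [show u⁻¹ * (g1 * u * g1⁻¹) = u⁻¹ * ((g1 * u) * g1⁻¹) by group, su_mul_mulVec, su_mul_mulVec,
      su_mul_mulVec]
    set y := (g1⁻¹).1.1 *ᵥ x with hy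
    have hx' : g1.1.1 *ᵥ y = x := su_mulVec_inv g1 x
    refine (congrArg (fun v => (u⁻¹).1.1 *ᵥ v) (?_ :
      g1.1.1 *ᵥ (u.1.1 *ᵥ y) = u.1.1 *ᵥ (x + (c * uh σ x (B.e 0)) • B.e 0))).trans (su_inv_mulVec u _)
    rw [← hx']
    simp only [hu, hg1, uh_add_left, uh_smul_left, B.ee, B.de, B.ed, B.dd]
    have hσa0 : σ a ≠ 0 := (map_ne_zero σ).2 ha0
    match_scalars <;> simp only [hr, map_neg, map_div₀, map_mul, h.invol, hc] <;> field_simp <;>
      first
        | ring1
        | linear_combination (c * uh σ y (B.e 0)) * hθ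
        | linear_combination (c * uh σ y (B.e 0) * (σ a * a)) * hθ
  refine top_of_params_three h (transvGroup_eq_top hF h 3 (by omega) fun _ => hq) B (g := Ex * n1)
    (w := Ex * n1 * u * (Ex * n1)⁻¹) huH (Subgroup.subset_closure (by simp)) hχ hρ hc hd hγ' ha ha0 hue hud huf huE ?_ ?_ ?_ rfl hT ?_ ?_
  · rw [su_mul_mulVec, hne, mulVec_smul, hEx, B.fe, if_pos rfl, B.fd]
    match_scalars <;> simp [z0, hσρ0] <;> field_simp
  · rw [su_mul_mulVec, hnf, mulVec_smul, hEx, B.ee, B.ed]; simp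
  · rw [su_mul_mulVec, hnd, mulVec_smul, hEx, B.de, B.dd, map_div₀, h.invol]
    match_scalars <;> ring
  · have hlρ : ρ * c = -l := by rw [hρdef, div_mul_cancel₀ _ hd]
    rw [hlρ, map_neg, neg_mul_neg]
    rcases hcase with h1 | ⟨h1, h2⟩ | hprime
    · rw [h1, div_one]; exact hT
    · -- the square of the regular element
      have hsq := huE.mul (B.ee 0 0) (by rw [uh_smul_right, B.ed, mul_zero])
        (by rw [uh_smul_left, B.de, mul_zero]) huE
      refine (hsq.congr (w' := 0) ?_ ?_).toT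
      · rw [← two_smul F, h2, zero_smul]
      · have hσl0 : σ l ≠ 0 := (map_ne_zero σ).2 hl0
        have hc1 : c = 1 := by rw [hcdef]; linear_combination h1 - σ l * h2
        rw [uh_smul_left, uh_smul_right, B.dd, mul_one, hanorm, hc1]
        simp only [z0]
        rw [hσρ, hρdef, hc1, div_one, div_one]
        field_simp
        first
          | linear_combination l * h2
          | linear_combination (-l) * h2
          | linear_combination (l + 1) * h2
          | linear_combination (1 : F) * h2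
    · -- a multiple of `c` by an element of the prime field
      set ν := (l * σ l)⁻¹ with hν
      have hνfix : ν ^ q = ν := by
        rw [← h.pow, hν, map_inv₀, map_mul, h.invol, mul_comm]
      have : Fact q.Prime := ⟨hprime⟩
      have hqchar : CharP F q := by
        have := Fintype.ofFinite F
        obtain ⟨p, hp⟩ := CharP.exists F
        obtain ⟨j, hjp, hj⟩ := FiniteField.card F p
        rw [← Nat.card_eq_fintype_card, hF] at hj
        have : q = p := (Nat.prime_dvd_prime_iff_eq hprime hjp).1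
          (hprime.dvd_of_dvd_pow (hj ▸ dvd_pow_self q two_ne_zero))
        exact this ▸ hp
      have hbij : ν ∈ Set.range (fun j : ℕ => (j : F)) := by
        classical
        let P : Polynomial F := Polynomial.X ^ q - Polynomial.X
        have hP : P ≠ 0 := FiniteField.X_pow_card_sub_X_ne_zero F hprime.one_lt
        have hdeg : P.natDegree = q := FiniteField.X_pow_card_sub_X_natDegree_eq F hprime.one_lt
        by_contra hno
        let T : Finset F := insert ν ((Finset.range q).image fun j : ℕ => (j : F))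
        have hcard : T.card = q + 1 := by
          rw [Finset.card_insert_of_notMem (fun hm => hno (by
            obtain ⟨j, -, hj⟩ := Finset.mem_image.1 hm; exact ⟨j, hj⟩)),
            Finset.card_image_of_injOn (fun i hi j hj hij => ?_), Finset.card_range]
          exact Nat.ModEq.eq_of_lt_of_lt ((CharP.natCast_eq_natCast F q).1 hij)
            (Finset.mem_range.1 hi) (Finset.mem_range.1 hj)
        have : T.card ≤ P.natDegree := by
          refine Polynomial.card_le_degree_of_subset_roots ?_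
          intro x hx
          rw [Polynomial.mem_roots hP]
          rcases Finset.mem_insert.1 (show x ∈ T from hx) with rfl | hx
          · simp [P, hνfix]
          · obtain ⟨j, -, rfl⟩ := Finset.mem_image.1 hx
            simp [P, ← h.pow, map_natCast]
        omega
      obtain ⟨j, hj⟩ := hbij
      have hnat : ∀ j : ℕ, EIn σ H (B.e 0) 0 (j * c) := by
        intro j
        induction j with
        | zero => exact (TIn.zero _).toE.congr rfl (by simp)
        | succ j ih =>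
          exact (ih.mul (B.ee 0 0) (by rw [uh_zero_right]) (by rw [uh_zero_left]) hT.toE).congr
            (by simp) (by rw [uh_zero_left]; push_cast; ring)
      exact (hnat j).toT.congr rfl (by
        show (j : F) * c = c / (l * σ l)
        simp only at hj
        rw [hj, hν, div_eq_inv_mul])
  · convert hgen using 3
    rw [hρdef]
    have hσl0 : σ l ≠ 0 := (map_ne_zero σ).2 hl0
    rw [div_mul_cancel₀ _ hd, neg_neg, map_div₀, map_neg, hc, neg_div_neg_eq]
    field_simp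

end CfsgLib.KnownA.SuGen
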