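import Cfsg.Agent.Lib.KnownA.SuGen.TwoSetup

/-!
The three dimensional special unitary group is generated by two conjugate regular unipotent
elements.
-/

set_option autoImplicit false

namespace CfsgLib.KnownA.SuGen

open Matrix CfsgLib.Classical CfsgLib.Classical.Unitary

variable {F : Type*} [Field F] {σ : F →+* F} {q : ℕ}

/-- A nonzero element generating a proper subring satisfies a small power relation. -/
theorem pow_eq_one_of_closure_ne_top [Finite F] (hF : Nat.card F = q ^ 2) {p e : ℕ}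
    (hpp : p.Prime) (hqp : q = p ^ e) {φ : F} (hφ0 : φ ≠ 0)
    (hne : Subring.closure ({φ} : Set F) ≠ ⊤) :
    ∃ d : ℕ, 1 ≤ d ∧ d ≤ e ∧ φ ^ (p ^ d - 1) = 1 := by
  classical
  set R := Subring.closure ({φ} : Set F)
  have h2 := SpGen.not_mem_sq_le hne
  have hdvd : Nat.card R ∣ Nat.card F := AddSubgroup.card_addSubgroup_dvd_card R.toAddSubgroup
  rw [hF, hqp, ← pow_mul] at hdvd h2
  obtain ⟨d, -, hd⟩ := (Nat.dvd_prime_pow hpp).1 hdvd
  have h1 : 1 < Nat.card R := Finite.one_lt_card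
  refine ⟨d, ?_, ?_, ?_⟩
  · by_contra h0
    rw [show d = 0 by omega] at hd; simp at hd; omega
  · rw [hd, ← pow_mul] at h2
    have := (Nat.pow_le_pow_iff_right hpp.one_lt).1 h2
    omega
  · letI := Fintype.ofFinite R
    letI := Fintype.fieldOfDomain R
    have hx : (⟨φ, Subring.subset_closure rfl⟩ : R) ≠ 0 := fun e' => hφ0 (congrArg Subtype.val e')
    have := FiniteField.pow_card_sub_one_eq_one (⟨φ, Subring.subset_closure rfl⟩ : R) hx
    rw [← Nat.card_eq_fintype_card, hd] at this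
    exact congrArg Subtype.val this

theorem exists_char_pow [Finite F] (hF : Nat.card F = q ^ 2) (hq : 3 ≤ q) :
    ∃ p e : ℕ, p.Prime ∧ 1 ≤ e ∧ q = p ^ e ∧ (p : F) = 0 := by
  obtain ⟨p, hp⟩ := CharP.exists F
  have hpp : p.Prime := CharP.char_is_prime F p
  have := Fintype.ofFinite F
  have : Fact p.Prime := ⟨hpp⟩
  obtain ⟨j, -, hj⟩ := FiniteField.card F p
  rw [← Nat.card_eq_fintype_card, hF] at hj
  obtain ⟨i, -, hi⟩ := (Nat.dvd_prime_pow hpp).1 (hj ▸ dvd_pow_self q two_ne_zero : q ∣ p ^ (j : ℕ))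
  refine ⟨p, i, hpp, ?_, hi, CharP.cast_eq_zero F p⟩
  by_contra h0
  rw [show i = 0 by omega, pow_zero] at hi
  omega

/-- The norm one parameter. -/
theorem exists_normOne_gen [Finite F] (hF : Nat.card F = q ^ 2) (h : UFrob σ q) (hq : 3 ≤ q)
    (h5 : q ≠ 5) (h8 : q ≠ 8) :
    ∃ ω : F, σ ω = ω⁻¹ ∧ ω ≠ 0 ∧ 1 + ω ≠ 0 ∧ Subring.closure ({(σ ω) ^ 3} : Set F) = ⊤ := by
  classical
  obtain ⟨⟨u, hu⟩, hgen⟩ := IsCyclic.exists_generator (α := normOne F q)
  have hord : orderOf u = q + 1 := by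
    rw [← card_normOne hF, ← orderOf_eq_card_of_forall_mem_zpowers hgen, Subgroup.orderOf_mk]
  set ω : F := (u : F) with hωdef
  have hωn : ω * σ ω = 1 := by
    rw [h.pow, ← pow_succ']
    exact congrArg Units.val (MonoidHom.mem_ker.1 hu)
  have hσω : σ ω = ω⁻¹ := eq_inv_of_mul_eq_one_right hωn
  have hω0 : ω ≠ 0 := u.ne_zero
  have hpowω : ∀ {j : ℕ}, ω ^ j = 1 → q + 1 ∣ j := fun {j} e => hord ▸
    orderOf_dvd_of_pow_eq_one (show u ^ j = 1 from Units.ext (by simpa [hωdef] using e))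
  refine ⟨ω, hσω, hω0, fun e' => ?_, ?_⟩
  · have : ω ^ 2 = 1 := by linear_combination (ω - 1) * e'
    have := Nat.le_of_dvd (by omega) (hpowω this)
    omega
  by_contra hne
  obtain ⟨p, e, hpp, he, hqp, -⟩ := exists_char_pow hF hq
  obtain ⟨d, hd1, hd2, hd⟩ := pow_eq_one_of_closure_ne_top hF hpp hqp
    (pow_ne_zero _ ((map_ne_zero σ).2 hω0)) hne
  rw [hσω, inv_pow, inv_pow, inv_eq_one, ← pow_mul] at hd
  obtain ⟨i, hi⟩ := hpowω hd
  have hr1 : p ≤ p ^ d := Nat.le_self_pow (by omega) p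
  have hp2 : 2 ≤ p := hpp.two_le
  rcases Nat.lt_or_ge d e with hlt | hge
  · have h1 : p * p ^ d ≤ q := by
      rw [hqp, ← pow_succ']; exact Nat.pow_le_pow_right hpp.pos hlt
    rcases Nat.lt_or_ge p 3 with hp3 | hp3
    · obtain rfl : p = 2 := by omega
      have hi1 : i = 1 := by
        rcases i with _ | _ | i
        · omega
        · rfl
        · exfalso
          have : (q + 1) * 2 ≤ (q + 1) * (i + 2) := Nat.mul_le_mul_left _ (by omega)
          have hi' : 3 * (2 ^ d - 1) = (q + 1) * (i + 2) := hi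
          omega
      rw [hi1, mul_one] at hi
      rcases Nat.lt_or_ge d 3 with hd3 | hd3
      · interval_cases d
        · norm_num at hi; omega
        · norm_num at hi; omega
      · have h8r : 8 ∣ 2 ^ d := Nat.pow_dvd_pow 2 hd3
        have h8q : 8 ∣ q := by
          rw [hqp, show 8 = 2 ^ 3 from rfl]; exact Nat.pow_dvd_pow 2 (by omega)
        omega
    · have : 3 * p ^ d ≤ q := le_trans (Nat.mul_le_mul_right _ hp3) h1
      rcases i with _ | i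
      · omega
      · have h' : (q + 1) * 1 ≤ (q + 1) * (i + 1) := Nat.mul_le_mul_left _ (by omega)
        omega
  · rw [show d = e by omega, ← hqp] at hi
    rcases i with _ | _ | _ | i
    · omega
    · omega
    · omega
    · have h' : (q + 1) * 3 ≤ (q + 1) * (i + 3) := Nat.mul_le_mul_left _ (by omega)
      have hi' : 3 * (q - 1) = (q + 1) * (i + 3) := hi
      omega

/-- One step of the exchanging element. -/
theorem w_step {B : HFrame σ 3 1} {ρ γ : F} {w : Cfsg.SU 3 F q}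
    (hw : ∀ A C D, w.1.1 *ᵥ vec3 B (A + C * (σ γ / σ ρ) + D / ρ) (A * γ - C * (ρ / σ ρ)) (A * σ ρ) =
      vec3 B ((A + D / σ ρ - σ γ / σ ρ * C) + (C + γ / ρ * D) * (σ γ / σ ρ) + D / ρ)
        ((A + D / σ ρ - σ γ / σ ρ * C) * γ - (C + γ / ρ * D) * (ρ / σ ρ))
        ((A + D / σ ρ - σ γ / σ ρ * C) * σ ρ)) (A C D : F) {y₁ y₂ y₃ z₁ z₂ z₃ : F}
    (e₁ : A + C * (σ γ / σ ρ) + D / ρ = y₁) (e₂ : A * γ - C * (ρ / σ ρ) = y₂) (e₃ : A * σ ρ = y₃)
    (e₄ : (A + D / σ ρ - σ γ / σ ρ * C) + (C + γ / ρ * D) * (σ γ / σ ρ) + D / ρ = z₁)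
    (e₅ : (A + D / σ ρ - σ γ / σ ρ * C) * γ - (C + γ / ρ * D) * (ρ / σ ρ) = z₂)
    (e₆ : (A + D / σ ρ - σ γ / σ ρ * C) * σ ρ = z₃) :
    w.1.1 *ᵥ vec3 B y₁ y₂ y₃ = vec3 B z₁ z₂ z₃ := by
  rw [← vec3_congr B e₁ e₂ e₃, hw]
  exact vec3_congr B e₄ e₅ e₆

/-- The generic case. -/
theorem twoSu_generic [Finite F] (hF : Nat.card F = q ^ 2) (hq : 3 ≤ q) (h : UFrob σ q)
    (B : HFrame σ 3 1) (h5 : q ≠ 5) (h8 : q ≠ 8) : TwoSu F q := by
  obtain ⟨ω, hσω, hω0, hω1, hgen⟩ := exists_normOne_gen hF h hq h5 h8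
  obtain ⟨γ, hγ⟩ := CfsgLib.Geometry.exists_norm_eq h.ne h.invol (c := (-1 : F)) (by simp)
  have hγ0 : γ ≠ 0 := fun e => by simp [e] at hγ
  obtain ⟨ρ, hρ⟩ : ∃ ρ, ρ = ω / (1 + ω) := ⟨_, rfl⟩
  have hσρ : σ ρ = 1 / (1 + ω) := by
    rw [hρ, map_div₀, map_add, map_one, hσω]
    field_simp
    grind
  refine twoSu_of hF hq h B (ρ := ρ) (γ := γ) (l := (1 + ω) / ω) (a := γ * (1 + ω) * (1 + ω))
    (z := (1 + ω) * (3 + ω)) (μ := ω) ?_ ?_ (div_ne_zero hω1 hω0) hγ0 ?_ ?_ hω0 ?_ ?_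
  · rw [hρ]; exact div_ne_zero hω0 hω1
  · rw [hγ, hσρ, hρ]; field_simp; grind
  · rw [map_div₀, map_add, map_one, hσω, hρ]; field_simp; ring
  · simp only [map_mul, map_add, map_one, map_ofNat, hσω]
    field_simp
    grind
  · rwa [show σ ω * (σ ω / ω) = (σ ω) ^ 3 by rw [div_eq_mul_inv, ← hσω]; ring]
  intro u w hu hw H huH hwH
  refine ⟨w * u * w, mul_mem (mul_mem hwH huH) hwH, ?_⟩
  rw [su_mul_mulVec, su_mul_mulVec, ← vec3_e,
    w_step hw 0 0 ρ (z₁ := 0) (z₂ := 0) (z₃ := ρ) ?_ (by simp) (by simp) ?_ ?_ ?_, hu,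
    w_step hw ω (-(γ * ω)) (ρ * ω) (z₁ := ω) (z₂ := 0) (z₃ := 0) ?_ ?_ ?_ ?_ ?_ ?_, vec3_smul]
  · simp
  all_goals rw [hσρ, hρ]; field_simp
  all_goals grind

/-- The case of twenty five elements. -/
theorem twoSu_five [Finite F] (hF : Nat.card F = q ^ 2) (h : UFrob σ q)
    (B : HFrame σ 3 1) (hq : q = 5) : TwoSu F q := by
  obtain ⟨p, e, hpp, he, hqp, hp0⟩ := exists_char_pow hF (by omega)
  have he1 : e = 1 := Nat.Prime.eq_one_of_pow (x := p) (hqp ▸ hq ▸ (by decide : Nat.Prime 5))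
  rw [he1, pow_one, hq] at hqp
  subst hqp
  have h5 : (5 : F) = 0 := by exact_mod_cast hp0
  have h2 : (2 : F) ≠ 0 := fun e2 => one_ne_zero (α := F) (by linear_combination h5 - 2 * e2)
  have h3 : (3 : F) ≠ 0 := fun e3 => h2 (by linear_combination h5 - e3)
  obtain ⟨x, hx⟩ := exists_pow_succ_eq hF (c := (3 : F)) (by
    rw [← h.pow, map_ofNat])
  rw [hq] at hx
  obtain ⟨θ, hθdef⟩ : ∃ θ, θ = 3 * (1 + x ^ 3) := ⟨_, rfl⟩
  have hθ : θ * θ = θ - 2 := by grind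
  have hσθ : σ θ = 1 - θ := by
    have : σ (x ^ 3) = (x ^ 3) ^ 5 := by rw [h.pow, hq]
    rw [hθdef, map_mul, map_add, map_one, map_ofNat, this]
    grind
  have hθ0 : θ ≠ 0 := fun e' => h2 (by rw [e'] at hθ; linear_combination hθ)
  have hθ1 : (1 - θ : F) ≠ 0 := fun e' => h2 (by grind)
  have hμ : (4 + θ : F) ≠ 0 := fun e' => by grind
  have hi1 : θ⁻¹ = 3 * (1 - θ) := inv_eq_of_mul_eq_one_right (by grind)
  have hi2 : (1 - θ)⁻¹ = 3 * θ := inv_eq_of_mul_eq_one_right (by grind)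
  refine twoSu_of hF (by omega) h B (ρ := θ) (γ := 2) (l := 1) (a := 1 + 4 * θ) (z := 4)
    (μ := 4 + θ) hθ0 ?_ one_ne_zero h2 ?_ ?_ hμ ?_ ?_
  · rw [map_ofNat, hσθ]; grind
  · rw [map_one, div_eq_mul_inv, hi1]; grind
  · simp only [map_mul, map_add, map_one, map_ofNat, hσθ]; grind
  · have hφ : σ (4 + θ) * (σ (4 + θ) / (4 + θ)) = 1 + 3 * θ := by
      rw [mul_div_assoc', div_eq_iff hμ, map_add, map_ofNat, hσθ]
      grind
    rw [hφ]
    by_contra hne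
    obtain ⟨d, hd1, hd2, hd⟩ := pow_eq_one_of_closure_ne_top (p := 5) (e := 1) hF
      (by decide) (by rw [hq]; rfl) (fun e' => h2 (by grind)) hne
    rw [show d = 1 by omega] at hd
    norm_num at hd
    grind
  intro u w hu hw H huH hwH
  refine ⟨(w * w)⁻¹ * (u⁻¹ * w),
    mul_mem (inv_mem (mul_mem hwH hwH)) (mul_mem (inv_mem huH) hwH), ?_⟩
  have s1 : w.1.1 *ᵥ B.e 0 = vec3 B 0 0 θ := by
    rw [← vec3_e]
    refine w_step hw 0 0 θ ?_ ?_ ?_ ?_ ?_ ?_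
    all_goals try simp only [div_eq_mul_inv, hσθ, map_ofNat, hi1, hi2]
    all_goals grind
  have s2 : u⁻¹.1.1 *ᵥ vec3 B 0 0 θ = vec3 B (4 * θ) 3 θ := by
    have e' : u.1.1 *ᵥ vec3 B (4 * θ) 3 θ = vec3 B 0 0 θ := by
      rw [hu]
      refine vec3_congr B ?_ ?_ rfl
      all_goals try simp only [map_mul, map_add, map_one, map_ofNat, hσθ]
      all_goals grind
    rw [← e', su_inv_mulVec]
  have s3 : w.1.1 *ᵥ vec3 B 0 0 θ = vec3 B (4 + 3 * θ) θ (1 + 2 * θ) := by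
    refine w_step hw (4 + 3 * θ) 2 θ ?_ ?_ ?_ ?_ ?_ ?_
    all_goals try simp only [div_eq_mul_inv, hσθ, map_ofNat, hi1, hi2]
    all_goals grind
  have s4 : vec3 B (4 * θ) 3 θ = (4 + θ) • vec3 B (4 + 3 * θ) θ (1 + 2 * θ) := by
    rw [vec3_smul]
    refine vec3_congr B ?_ ?_ ?_ <;> grind
  rw [su_mul_mulVec, su_mul_mulVec, s1, s2, s4, ← s3, ← s1, ← su_mul_mulVec, ← mulVec_smul,
    su_inv_mulVec]

set_option maxHeartbeats 1000000 in
/-- The case of sixty four elements. -/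
theorem twoSu_eight [Finite F] (hF : Nat.card F = q ^ 2) (h : UFrob σ q)
    (B : HFrame σ 3 1) (hq : q = 8) : TwoSu F q := by
  classical
  obtain ⟨p, e, hpp, he, hqp, hp0⟩ := exists_char_pow hF (by omega)
  have hp2 : p = 2 := by
    have : p ∣ 2 ^ 3 := by rw [show 2 ^ 3 = q by omega, hqp]; exact dvd_pow_self p (by omega)
    exact (Nat.prime_dvd_prime_iff_eq hpp Nat.prime_two).1 (hpp.dvd_of_dvd_pow this)
  subst hp2
  have he3 : e = 3 := Nat.pow_right_injective le_rfl (show 2 ^ e = 2 ^ 3 by omega)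
  have h2 : (2 : F) = 0 := by exact_mod_cast hp0
  obtain ⟨g, hg⟩ := IsCyclic.exists_generator (α := Fˣ)
  have hgord : orderOf g = 63 := by
    rw [orderOf_eq_card_of_forall_mem_zpowers hg, card_units_field, hF, hq]
    norm_num
  have hgne : ∀ j, 0 < j → j < 63 → (g : F) ^ j ≠ 1 := fun j hj hj' e' => by
    have := Nat.le_of_dvd hj (hgord ▸
      orderOf_dvd_of_pow_eq_one (show g ^ j = 1 from Units.ext (by simpa using e')))
    omega
  have hg63 : (g : F) ^ 63 = 1 := by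
    rw [← hgord, ← Units.val_pow_eq_pow_val, pow_orderOf_eq_one, Units.val_one]
  obtain ⟨v, hv, hv1⟩ : ∃ v : F, v ^ 3 = 1 ∧ v ≠ 1 :=
    ⟨(g : F) ^ 21, by rw [← pow_mul, hg63], hgne 21 (by omega) (by omega)⟩
  have hv' : v * v = v + 1 := mul_left_cancel₀ (sub_ne_zero.2 hv1) (by grind)
  obtain ⟨s, hs7, hs⟩ : ∃ s : F, s ^ 7 = 1 ∧ s ^ 3 = s + 1 := by
    have hx7 : ((g : F) ^ 9) ^ 7 = 1 := by rw [← pow_mul, hg63]
    obtain ⟨x, hx, hxg⟩ : ∃ x : F, x ^ 7 = 1 ∧ x = (g : F) ^ 9 := ⟨_, hx7, rfl⟩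
    have hx1 : x - 1 ≠ 0 := sub_ne_zero.2 (hxg ▸ hgne 9 (by omega) (by omega))
    have e' : (x - 1) * ((x ^ 3 + x + 1) * (x ^ 3 + x ^ 2 + 1)) = 0 := by grind
    rcases mul_eq_zero.1 ((mul_eq_zero.1 e').resolve_left hx1) with e'' | e''
    · exact ⟨x, hx, by grind⟩
    · refine ⟨x ^ 6, by rw [← pow_mul, mul_comm, pow_mul, hx, one_pow], by grind⟩
  clear hg63 hgne hgord
  have hσs : σ s = s := by rw [h.pow, hq, show s ^ 8 = s ^ 7 * s by ring, hs7, one_mul]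
  have hσv : σ v = v + 1 := by
    rw [h.pow, hq, show v ^ 8 = v ^ 3 * v ^ 3 * (v * v) by ring, hv, hv', one_mul, one_mul]
  have h10 : (1 : F) ≠ 0 := one_ne_zero
  obtain ⟨R, hR⟩ : ∃ R, R = 1 + s * v + s ^ 2 * v := ⟨_, rfl⟩
  have hσR : σ R = 1 + s + s ^ 2 + s * v + s ^ 2 * v := by
    simp only [hR, map_mul, map_add, map_one, map_pow, hσs, hσv]; grind
  have hR0 : R ≠ 0 := fun e' => h10 (by
    have : R * (1 + v + s * v + s ^ 2 + s ^ 2 * v) = 1 := by grind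
    rw [← this, e', zero_mul])
  have hi1 : R⁻¹ = 1 + v + s * v + s ^ 2 + s ^ 2 * v := inv_eq_of_mul_eq_one_right (by grind)
  have hi2 : (σ R)⁻¹ = v + s + s * v + s ^ 2 * v := inv_eq_of_mul_eq_one_right (by grind)
  have hμi : (1 + s ^ 2 * v) * (1 + v + s + s ^ 2 * v) = 1 := by grind
  have hμ : 1 + s ^ 2 * v ≠ 0 := fun e' => h10 (by rw [← hμi, e', zero_mul])
  obtain ⟨γ, hγd⟩ : ∃ γ, γ = s ^ 2 + s ^ 2 * v := ⟨_, rfl⟩
  have hσγ : σ γ = s ^ 2 * v := by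
    simp only [hγd, map_mul, map_add, map_one, map_pow, hσs, hσv]; grind
  have hl : (1 + s : F) ≠ 0 := fun e' => h10 (by grind)
  refine twoSu_of hF (by omega) h B (ρ := R) (γ := γ) (l := 1 + s)
    (a := 1 + s ^ 2 + s * v + s ^ 2 * v) (z := s + s ^ 2 + s * v + s ^ 2 * v) (μ := 1 + s ^ 2 * v)
    hR0 ?_ hl ?_ ?_ ?_ hμ ?_ ?_
  · rw [hσγ, hσR, hR, hγd]; grind
  · exact fun e' => h10 (by grind)
  · rw [map_add, map_one, hσs, show (1 + s) ^ 2 / (1 + s) = 1 + s by field_simp, div_eq_mul_inv, hi1,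
      hγd]
    grind
  · simp only [map_mul, map_add, map_one, map_pow, hσs, hσv]; grind
  · have hφ : σ (1 + s ^ 2 * v) * (σ (1 + s ^ 2 * v) / (1 + s ^ 2 * v)) = (1 + s + s ^ 2) * v := by
      rw [mul_div_assoc', div_eq_iff hμ]
      simp only [map_mul, map_add, map_one, map_pow, hσs, hσv]
      grind
    rw [hφ]
    have hφ3 : ((1 + s + s ^ 2) * v) ^ 3 = s := by grind
    have hφ7 : ((1 + s + s ^ 2) * v) ^ 7 = v := by grind
    by_contra hne
    obtain ⟨d, hd1, hd2, hd⟩ := pow_eq_one_of_closure_ne_top (p := 2) (e := e) hF Nat.prime_two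
      hqp (fun e' => h10 (by grind)) hne
    have hd' : d = 1 ∨ d = 2 ∨ d = 3 := by omega
    have hs1 : s ≠ 1 := fun e' => h10 (by rw [e'] at hs; grind)
    rcases hd' with rfl | rfl | rfl
    · norm_num at hd
      exact hs1 (by rw [← hφ3, hd, one_pow])
    · norm_num at hd
      exact hs1 (by rw [← hφ3, hd])
    · norm_num at hd
      exact hv1 (by rw [← hφ7, hd])
  intro u w hu hw H huH hwH
  refine ⟨w * u * u * w * u⁻¹ * w, mul_mem (mul_mem (mul_mem (mul_mem (mul_mem hwH huH) huH) hwH)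
    (inv_mem huH)) hwH, ?_⟩
  have s1 : w.1.1 *ᵥ B.e 0 = vec3 B 0 0 R := by
    rw [← vec3_e]
    refine w_step hw 0 0 R ?_ ?_ ?_ ?_ ?_ ?_
    all_goals try simp only [div_eq_mul_inv, hσγ, hi1, hi2]
    all_goals ((try simp only [hσR]); (try simp only [hR, hγd]); clear * - h2 hs hv'; grind)
  have s2 : u⁻¹.1.1 *ᵥ vec3 B 0 0 R =
      vec3 B (s + s ^ 2 * v) (1 + s + s ^ 2 + v + s * v + s ^ 2 * v) R := by
    have e' : u.1.1 *ᵥ vec3 B (s + s ^ 2 * v) (1 + s + s ^ 2 + v + s * v + s ^ 2 * v) R =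
        vec3 B 0 0 R := by
      rw [hu]
      refine vec3_congr B ?_ ?_ rfl
      all_goals try simp only [map_mul, map_add, map_one, map_pow, hσs, hσv, hR]
      all_goals grind
    rw [← e', su_inv_mulVec]
  have s3 : w.1.1 *ᵥ vec3 B (s + s ^ 2 * v) (1 + s + s ^ 2 + v + s * v + s ^ 2 * v) R =
      vec3 B (s + s ^ 2 + s ^ 2 * v) (1 + s + s ^ 2 * v) (s + s * v) := by
    refine w_step hw (s + s ^ 2 + s ^ 2 * v) v (1 + s + s ^ 2) ?_ ?_ ?_ ?_ ?_ ?_
    all_goals try simp only [div_eq_mul_inv, hσγ, hi1, hi2]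
    all_goals ((try simp only [hσR]); (try simp only [hR, hγd]); clear * - h2 hs hv'; grind)
  have s4 : u.1.1 *ᵥ vec3 B (s + s ^ 2 + s ^ 2 * v) (1 + s + s ^ 2 * v) (s + s * v) =
      vec3 B (s + s ^ 2) (1 + s ^ 2 + v + s ^ 2 * v) (s + s * v) := by
    rw [hu]
    refine vec3_congr B ?_ ?_ rfl
    all_goals try simp only [map_mul, map_add, map_one, map_pow, hσs, hσv]
    all_goals grind
  have s5 : u.1.1 *ᵥ vec3 B (s + s ^ 2) (1 + s ^ 2 + v + s ^ 2 * v) (s + s * v) =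
      vec3 B (1 + v + s * v) (1 + s + s ^ 2 * v) (s + s * v) := by
    rw [hu]
    refine vec3_congr B ?_ ?_ rfl
    all_goals try simp only [map_mul, map_add, map_one, map_pow, hσs, hσv]
    all_goals grind
  have s6 : w.1.1 *ᵥ vec3 B (1 + v + s * v) (1 + s + s ^ 2 * v) (s + s * v) =
      vec3 B (1 + s ^ 2 * v) 0 0 := by
    refine w_step hw (1 + s ^ 2 * v) (s + s ^ 2 * v) (s ^ 2 + v + s * v + s ^ 2 * v)
      ?_ ?_ ?_ ?_ ?_ ?_
    all_goals try simp only [div_eq_mul_inv, hσγ, hi1, hi2]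
    all_goals ((try simp only [hσR]); (try simp only [hR, hγd]); clear * - h2 hs hv'; grind)
  rw [su_mul_mulVec, su_mul_mulVec, su_mul_mulVec, su_mul_mulVec, su_mul_mulVec, s1, s2, s3, s4,
    s5, s6, ← vec3_e, vec3_smul]
  simp

/-- The group is generated by two conjugate regular unipotent elements. -/
theorem twoSu [Finite F] (hF : Nat.card F = q ^ 2) (hq : 3 ≤ q) : TwoSu F q := by
  obtain ⟨σ, h⟩ := exists_uFrob hF
  obtain ⟨B⟩ := exists_frame (σ := σ) (m := 1) hF h rfl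
  by_cases h5 : q = 5
  · exact twoSu_five hF h B h5
  by_cases h8 : q = 8
  · exact twoSu_eight hF h B h8
  exact twoSu_generic hF hq h B h5 h8

end CfsgLib.KnownA.SuGen
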