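import Cfsg.Agent.Lib.KnownA.SuGen.Borel

/-!
Set-up for generating the three dimensional special unitary group by two conjugate regular
unipotent elements.
-/

set_option autoImplicit false

namespace CfsgLib.KnownA.SuGen

open Matrix CfsgLib.Classical CfsgLib.Classical.Unitary

variable {F : Type*} [Field F] {σ : F →+* F} {q : ℕ}

/-- The vector with coordinates `(A, C, D)` in the frame. -/
def vec3 (B : HFrame σ 3 1) (A C D : F) : Fin 3 → F := A • B.e 0 + C • B.d + D • B.f 0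

theorem vec3_e (B : HFrame σ 3 1) : vec3 B 1 0 0 = B.e 0 := by simp [vec3]

theorem vec3_smul (B : HFrame σ 3 1) (r A C D : F) :
    r • vec3 B A C D = vec3 B (r * A) (r * C) (r * D) := by
  simp [vec3, smul_add, smul_smul]

theorem vec3_congr (B : HFrame σ 3 1) {A C D A' C' D' : F} (h1 : A = A') (h2 : C = C')
    (h3 : D = D') : vec3 B A C D = vec3 B A' C' D' := by rw [h1, h2, h3]

theorem uh_vec3_e (B : HFrame σ 3 1) (A C D : F) : uh σ (vec3 B A C D) (B.e 0) = D := by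
  simp [vec3, uh_add_left, uh_smul_left, B.ee, B.de, B.fe]

/-- The conclusion. -/
def TwoSu (F : Type*) [Field F] (q : ℕ) : Prop :=
  ∃ u g : ↥(Cfsg.SU 3 F q),
    (IsNilpotent (((u : Matrix.SpecialLinearGroup (Fin 3) F) : Matrix (Fin 3) (Fin 3) F) - 1) ∧
      (((u : Matrix.SpecialLinearGroup (Fin 3) F) : Matrix (Fin 3) (Fin 3) F) - 1) ^ (3 - 1) ≠ 0) ∧
      Subgroup.closure ({u, g * u * g⁻¹} : Set ↥(Cfsg.SU 3 F q)) = ⊤

set_option maxHeartbeats 1000000 in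
/-- Reduction to the existence of a good element in a Borel subgroup. -/
theorem twoSu_of [Finite F] (hF : Nat.card F = q ^ 2) (hq : 3 ≤ q) (h : UFrob σ q)
    (B : HFrame σ 3 1) {ρ γ l a z μ : F} (hρ : ρ ≠ 0) (hγ : γ * σ γ = -(ρ + σ ρ)) (hl : l ≠ 0)
    (hγ0 : γ ≠ 0) (ha : a = γ / ρ * (σ l ^ 2 / l)) (hz : z + σ z + a * σ a = 0) (hμ : μ ≠ 0)
    (hgen : Subring.closure ({σ μ * (σ μ / μ)} : Set F) = ⊤)
    (hword : ∀ u w : Cfsg.SU 3 F q,
      (∀ A C D, u.1.1 *ᵥ vec3 B A C D = vec3 B (A + z * D - σ a * C) (C + a * D) D) →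
      (∀ A C D, w.1.1 *ᵥ vec3 B (A + C * (σ γ / σ ρ) + D / ρ) (A * γ - C * (ρ / σ ρ)) (A * σ ρ) =
        vec3 B ((A + D / σ ρ - σ γ / σ ρ * C) + (C + γ / ρ * D) * (σ γ / σ ρ) + D / ρ)
          ((A + D / σ ρ - σ γ / σ ρ * C) * γ - (C + γ / ρ * D) * (ρ / σ ρ))
          ((A + D / σ ρ - σ γ / σ ρ * C) * σ ρ)) →
      ∀ H : Subgroup (Cfsg.SU 3 F q), u ∈ H → w ∈ H →
        ∃ t ∈ H, t.1.1 *ᵥ B.e 0 = μ • B.e 0) : TwoSu F q := by
  have hρ' : σ ρ ≠ 0 := (map_ne_zero σ).2 hρ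
  have hl' : σ l ≠ 0 := (map_ne_zero σ).2 hl
  have hz₀ : (σ ρ)⁻¹ + σ (σ ρ)⁻¹ + γ / ρ * σ (γ / ρ) = 0 := by
    rw [map_inv₀, h.invol, map_div₀]
    field_simp
    linear_combination hγ
  have ha0 : γ / ρ ≠ 0 := div_ne_zero hγ0 hρ
  have ha1 : a ≠ 0 := by rw [ha]; exact mul_ne_zero ha0 (div_ne_zero (pow_ne_zero _ hl') hl)
  obtain ⟨u₀, h₀⟩ := exists_radical_elt h B hz₀
  obtain ⟨u₁, h₁⟩ := exists_radical_elt h B hz
  obtain ⟨k, hk⟩ := radical_conj hF h B hl ha ha0 hz₀ hz h₀ h₁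
  obtain ⟨n1, hne, hnf, hnd⟩ := exists_mono hF h B (r := σ ρ) hρ'
  rw [h.invol] at hnf hnd
  obtain ⟨Ex, hEx⟩ := exists_radical_elt h B (a := γ / σ ρ) (z := (σ ρ)⁻¹) (by
    rw [map_inv₀, h.invol, map_div₀, h.invol]
    field_simp
    linear_combination hγ)
  set g := Ex * n1 with hg
  have hgV : ∀ A C D, g.1.1 *ᵥ vec3 B A C D =
      vec3 B (A + C * (σ γ / σ ρ) + D / ρ) (A * γ - C * (ρ / σ ρ)) (A * σ ρ) := by
    intro A C D
    simp only [vec3, hg, su_mul_mulVec, mulVec_add, mulVec_smul, hne, hnf, hnd, hEx, uh_add_left,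
      uh_smul_left, B.ee, B.ed,
      B.de, B.dd, B.fe, B.fd, if_pos, map_div₀, h.invol]
    match_scalars <;> field_simp <;> ring
  have huV : ∀ A C D, u₁.1.1 *ᵥ vec3 B A C D = vec3 B (A + z * D - σ a * C) (C + a * D) D := by
    intro A C D
    simp only [vec3, h₁, uh_add_left, uh_smul_left, B.ee, B.ed, B.de, B.dd, B.fe, B.fd, if_pos]
    match_scalars <;> ring
  have hu0V : ∀ A C D, u₀.1.1 *ᵥ vec3 B A C D =
      vec3 B (A + D / σ ρ - σ γ / σ ρ * C) (C + γ / ρ * D) D := by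
    intro A C D
    simp only [vec3, h₀, uh_add_left, uh_smul_left, B.ee, B.ed, B.de, B.dd, B.fe, B.fd, if_pos,
      map_div₀]
    match_scalars <;> ring
  set w := g * u₀ * g⁻¹ with hw
  have hwV : ∀ A C D,
      w.1.1 *ᵥ vec3 B (A + C * (σ γ / σ ρ) + D / ρ) (A * γ - C * (ρ / σ ρ)) (A * σ ρ) =
        vec3 B ((A + D / σ ρ - σ γ / σ ρ * C) + (C + γ / ρ * D) * (σ γ / σ ρ) + D / ρ)
          ((A + D / σ ρ - σ γ / σ ρ * C) * γ - (C + γ / ρ * D) * (ρ / σ ρ))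
          ((A + D / σ ρ - σ γ / σ ρ * C) * σ ρ) := by
    intro A C D
    rw [← hgV, ← hgV, ← hu0V, hw, su_mul_mulVec, su_mul_mulVec, su_inv_mulVec]
  have hue : u₁.1.1 *ᵥ B.e 0 = B.e 0 := by rw [h₁, B.ee, B.ed]; simp
  have hud : u₁.1.1 *ᵥ B.d = B.d - σ a • B.e 0 := by
    rw [h₁, B.de, B.dd]; simp [sub_eq_add_neg]
  have huf : u₁.1.1 *ᵥ B.f 0 = B.f 0 + a • B.d + z • B.e 0 := by
    rw [h₁, B.fe, if_pos rfl, B.fd]; simp
  refine ⟨u₁, g * k⁻¹, regular_nilpotent B (u := u₁) rfl le_rfl (0 : Fin 1) rfl ha1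
    (fun i _ => by rw [Subsingleton.elim i 0, hue]) (fun i j hij => absurd hij (by omega))
    (fun i j hij => absurd hij (by omega)) huf hud, ?_⟩
  set H := Subgroup.closure ({u₁, g * k⁻¹ * u₁ * (g * k⁻¹)⁻¹} : Set ↥(Cfsg.SU 3 F q))
  have huH : u₁ ∈ H := Subgroup.subset_closure (by simp)
  have hwH : w ∈ H := Subgroup.subset_closure (Set.mem_insert_of_mem _ (by
    rw [Set.mem_singleton_iff, hw, ← hk]; group))
  obtain ⟨t, ht, htb⟩ := hword u₁ w huV hwV H huH hwH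
  refine top_of_borel h (transvGroup_eq_top hF h 3 (by omega) fun _ => hq) B ha1
    (z := z) ⟨u₁, huH, fun x => ?_⟩ ht hwH hμ htb ?_ hgen
  · rw [h₁, uh_smul_right]; module
  · have e := hwV 0 0 ρ
    rw [show vec3 B (0 + 0 * (σ γ / σ ρ) + ρ / ρ) (0 * γ - 0 * (ρ / σ ρ)) (0 * σ ρ) = B.e 0 by
      simp [vec3, div_self hρ]] at e
    rw [e, uh_vec3_e]
    field_simp
    simp [hρ, hρ']

end CfsgLib.KnownA.SuGen
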